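import Mathlib.GroupTheory.SpecificGroups.Cyclic
import Mathlib.Algebra.Group.Commute.Basic
import Mathlib.Data.Nat.Choose.Basic

/-!
# Groups with all cyclic subgroups normal

Such a finite group is commutative or has an element of order 4 inverted by another one.
-/

set_option autoImplicit false

namespace Cfsg.Agent.EvenCyclicNorm

open Subgroup

variable {G : Type*} [Group G]

theorem mul_pow_of_twist {a b w : G} (hwa : Commute w a) (hwb : Commute w b) (hba : b * a = w * (a * b)) (n : ℕ) :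
    (a * b) ^ n = w ^ n.choose 2 * (a ^ n * b ^ n) := by
  have hb : ∀ m, b * a ^ m = w ^ m * (a ^ m * b) := by
    intro m
    induction m with
    | zero => simp
    | succ m ih =>
      calc b * a ^ (m + 1) = (b * a ^ m) * a := by rw [pow_succ, mul_assoc]
        _ = w ^ m * (a ^ m * (b * a)) := by rw [ih]; simp only [mul_assoc]
        _ = w ^ m * ((a ^ m * w) * (a * b)) := by rw [hba]; simp only [mul_assoc]
        _ = w ^ m * ((w * a ^ m) * (a * b)) := by rw [(hwa.pow_right m).eq]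
        _ = w ^ (m + 1) * (a ^ (m + 1) * b) := by rw [pow_succ, pow_succ]; simp only [mul_assoc]
  induction n with
  | zero => simp
  | succ n ih =>
    calc (a * b) ^ (n + 1) = (a * b) * (a * b) ^ n := pow_succ' _ _
      _ = (a * b) * (w ^ n.choose 2 * (a ^ n * b ^ n)) := by rw [ih]
      _ = ((a * b) * w ^ n.choose 2) * (a ^ n * b ^ n) := (mul_assoc _ _ _).symm
      _ = (w ^ n.choose 2 * (a * b)) * (a ^ n * b ^ n) := by rw [((hwa.mul_right hwb).pow_left _).eq]
      _ = w ^ n.choose 2 * (a * (b * a ^ n) * b ^ n) := by simp only [mul_assoc]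
      _ = w ^ n.choose 2 * ((a * w ^ n) * (a ^ n * (b * b ^ n))) := by rw [hb]; simp only [mul_assoc]
      _ = w ^ n.choose 2 * ((w ^ n * a) * (a ^ n * (b * b ^ n))) := by rw [(hwa.pow_left n).eq]
      _ = w ^ ((n + 1).choose 2) * (a ^ (n + 1) * b ^ (n + 1)) := by
        rw [Nat.choose_succ_succ', Nat.choose_one_right, add_comm n, pow_add, pow_succ' a, pow_succ' b]
        simp only [mul_assoc]

/-- Two elements inside a finite cyclic group with `orderOf y ∣ orderOf x`. -/
theorem mem_zpowers_of_orderOf_dvd [Finite G] {x y z : G} (hx : x ∈ zpowers z) (hy : y ∈ zpowers z)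
    (h : orderOf y ∣ orderOf x) : y ∈ zpowers x := by
  have hle : zpowers y ≤ zpowers x := by
    have key : ∀ a b : zpowers z, orderOf a ∣ orderOf b → a ∈ zpowers b := by
      intro a b hab
      classical
      haveI := Fintype.ofFinite (zpowers z)
      have hcard : (Finset.univ.filter fun t : zpowers z => t ^ orderOf b = 1).card ≤ orderOf b :=
        IsCyclic.card_pow_eq_one_le (orderOf_pos b)
      have hsub : ((zpowers b : Set (zpowers z)).toFinset) ⊆
          Finset.univ.filter fun t : zpowers z => t ^ orderOf b = 1 := by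
        intro t ht
        rw [Set.mem_toFinset] at ht
        exact Finset.mem_filter.2 ⟨Finset.mem_univ t,
          orderOf_dvd_iff_pow_eq_one.1 (orderOf_dvd_of_mem_zpowers ht)⟩
      have heq := Finset.eq_of_subset_of_card_le hsub (by
        rw [Set.toFinset_card, ← Nat.card_eq_fintype_card]
        exact hcard.trans (Nat.card_zpowers b).ge)
      have : a ∈ (zpowers b : Set (zpowers z)).toFinset := heq ▸
        Finset.mem_filter.2 ⟨Finset.mem_univ a, orderOf_dvd_iff_pow_eq_one.1 hab⟩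
      exact Set.mem_toFinset.1 this
    obtain ⟨i, hi⟩ := mem_zpowers_iff.1 (key ⟨y, hy⟩ ⟨x, hx⟩ (by rwa [← orderOf_coe, ← orderOf_coe]))
    exact zpowers_le.2 (mem_zpowers_iff.2 ⟨i, congrArg Subtype.val hi⟩)
  exact hle (mem_zpowers y)

/-- All cyclic subgroups are normal. -/
def AllN (G : Type*) [Group G] : Prop := ∀ x c : G, c * x * c⁻¹ ∈ zpowers x

theorem comm_or_inverted [Finite G] (h : AllN G) :
    (∀ a b : G, Commute a b) ∨ ∃ c x : G, orderOf c = 4 ∧ x * c * x⁻¹ = c⁻¹ := by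
  classical
  by_cases hcomm : ∀ a b : G, Commute a b
  · exact Or.inl hcomm
  refine Or.inr ?_
  have hexc : ∃ n, ∃ c : G, orderOf c = n ∧ ∃ x, ¬ Commute x c := by
    push Not at hcomm
    obtain ⟨a, b, hab⟩ := hcomm
    exact ⟨_, b, rfl, a, hab⟩
  obtain ⟨c, hcn, hcx⟩ := Nat.find_spec hexc
  have hcmin : ∀ c' : G, orderOf c' < orderOf c → ∀ x, Commute x c' := fun c' hlt x => by
    by_contra hn
    exact Nat.find_min hexc (hcn ▸ hlt) ⟨c', rfl, x, hn⟩
  have hexx : ∃ m, ∃ x : G, orderOf x = m ∧ ¬ Commute x c := by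
    obtain ⟨x, hx⟩ := hcx
    exact ⟨_, x, rfl, hx⟩
  obtain ⟨x, hxm, hxc⟩ := Nat.find_spec hexx
  have hxmin : ∀ x' : G, orderOf x' < orderOf x → Commute x' c := fun x' hlt => by
    by_contra hn
    exact Nat.find_min hexx (hxm ▸ hlt) ⟨x', rfl, hn⟩
  have hc1 : orderOf c ≠ 1 := fun e => hxc (by rw [orderOf_eq_one_iff.1 e]; exact Commute.one_right x)
  have hcxle : orderOf c ≤ orderOf x := not_lt.1 fun hlt => hxc (hcmin x hlt c).symm
  obtain ⟨p, hp, hpc⟩ := Nat.exists_prime_and_dvd hc1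
  have hlt : ∀ (y : G) (q : ℕ), q.Prime → q ∣ orderOf y → orderOf (y ^ q) < orderOf y := by
    intro y q hq hqy
    rw [orderOf_pow_of_dvd hq.ne_zero hqy]
    exact Nat.div_lt_self (orderOf_pos y) hq.one_lt
  set w := x * c * x⁻¹ * c⁻¹ with hw
  have hw1 : w ≠ 1 := fun e => hxc (by rw [hw, mul_inv_eq_one, mul_inv_eq_iff_eq_mul] at e; exact e)
  have hwc : w ∈ zpowers c := mul_mem (h c x) (inv_mem (mem_zpowers c))
  have hwx : w ∈ zpowers x := by
    rw [hw, show x * c * x⁻¹ * c⁻¹ = x * (c * x⁻¹ * c⁻¹) by group]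
    refine mul_mem (mem_zpowers x) ?_
    rw [show c * x⁻¹ * c⁻¹ = (c * x * c⁻¹)⁻¹ by group]
    exact inv_mem (h x c)
  have hwcc : Commute w c := by
    obtain ⟨i, hi⟩ := mem_zpowers_iff.1 hwc
    exact hi ▸ (Commute.refl c).zpow_left i
  have hwxx : Commute w x := by
    obtain ⟨i, hi⟩ := mem_zpowers_iff.1 hwx
    exact hi ▸ (Commute.refl x).zpow_left i
  have hxcw : x * c * x⁻¹ = w * c := by rw [hw, inv_mul_cancel_right]
  have hpow : ∀ q : ℕ, x * c ^ q * x⁻¹ = w ^ q * c ^ q := fun q => by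
    rw [← conj_pow, hxcw, hwcc.mul_pow]
  have hwq : ∀ q : ℕ, q.Prime → q ∣ orderOf c → w ^ q = 1 := by
    intro q hq hqc
    have h1 := hpow q
    rwa [(hcmin _ (hlt c q hq hqc) x).eq, mul_inv_cancel_right, right_eq_mul] at h1
  haveI : Fact p.Prime := ⟨hp⟩
  have hwo : orderOf w = p := orderOf_eq_prime (hwq p hp hpc) hw1
  -- both orders are powers of `p`
  have hcp : ∀ q : ℕ, q.Prime → q ∣ orderOf c → q = p := by
    intro q hq hqc
    have := orderOf_dvd_of_pow_eq_one (hwq q hq hqc)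
    rw [hwo] at this
    exact ((Nat.prime_dvd_prime_iff_eq hp hq).1 this).symm
  have hpx : p ∣ orderOf x := hwo ▸ orderOf_dvd_of_mem_zpowers hwx
  have hxp : ∀ q : ℕ, q.Prime → q ∣ orderOf x → q = p := by
    intro q hq hqx
    by_contra hne
    have h1 : (q.Coprime p) := (Nat.coprime_primes hq hp).2 hne
    obtain ⟨hq', hp'⟩ := And.intro (hxmin _ (hlt x q hq hqx)) (hxmin _ (hlt x p hp hpx))
    apply hxc
    have e : x = (x ^ q) ^ (Nat.gcdA q p) * (x ^ p) ^ (Nat.gcdB q p) := by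
      rw [← zpow_natCast x q, ← zpow_natCast x p, ← zpow_mul, ← zpow_mul, ← zpow_add, ← Nat.gcd_eq_gcd_ab,
        h1.gcd_eq_one, Nat.cast_one, zpow_one]
    rw [e]
    exact (hq'.zpow_left _).mul_left (hp'.zpow_left _)
  obtain ⟨k, hk⟩ : ∃ k, orderOf c = p ^ k :=
    ⟨_, Nat.eq_prime_pow_of_unique_prime_dvd (orderOf_pos c).ne' fun {q} hq hqc => hcp q hq hqc⟩
  obtain ⟨m, hm⟩ : ∃ m, orderOf x = p ^ m :=
    ⟨_, Nat.eq_prime_pow_of_unique_prime_dvd (orderOf_pos x).ne' fun {q} hq hqx => hxp q hq hqx⟩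
  have hk2 : 2 ≤ k := by
    by_contra hk2
    have hk1 : k = 1 := by
      rcases k with _ | _ | k
      · exact absurd (by rw [hk, pow_zero]) hc1
      · rfl
      · omega
    obtain ⟨i, hi⟩ := mem_zpowers_iff.1
      (zpowers_le.2 hwx (mem_zpowers_of_orderOf_dvd hwc (mem_zpowers c) (by rw [hwo, hk, hk1, pow_one])))
    exact hxc (hi ▸ (Commute.refl x).zpow_right i)
  have hkm : k ≤ m := by
    rw [hk, hm] at hcxle
    exact (Nat.pow_le_pow_iff_right hp.one_lt).1 hcxle
  by_cases hbad : p = 2 ∧ k = 2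
  · obtain ⟨rfl, rfl⟩ := hbad
    refine ⟨c, x, by rw [hk]; norm_num, ?_⟩
    have hc2 : orderOf (c ^ 2) = 2 := by
      rw [orderOf_pow_of_dvd (by norm_num) (by rw [hk]; norm_num), hk]; norm_num
    have hwe : w = c ^ 2 := by
      obtain ⟨i, hi⟩ := mem_zpowers_iff.1 (mem_zpowers_of_orderOf_dvd (npow_mem_zpowers c 2) hwc (by rw [hwo, hc2]))
      rcases Int.emod_two_eq_zero_or_one i with he | he
      · exfalso
        apply hw1
        rw [← hi, ← Int.mul_ediv_add_emod i 2, he, add_zero, zpow_mul, zpow_ofNat,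
          orderOf_dvd_iff_pow_eq_one.1 hc2.dvd, one_zpow]
      · rw [← hi, ← Int.mul_ediv_add_emod i 2, he, zpow_add, zpow_mul, zpow_ofNat,
          orderOf_dvd_iff_pow_eq_one.1 hc2.dvd, one_zpow, one_mul, zpow_one]
    rw [hxcw, hwe, ← pow_succ, eq_inv_iff_mul_eq_one, ← pow_succ]
    have := pow_orderOf_eq_one c
    rwa [hk] at this
  exfalso
  -- a suitable product has smaller order and is still non-central
  have hco : orderOf (c ^ p ^ (k - 1)) = p := by
    rw [orderOf_pow_of_dvd (pow_ne_zero _ hp.ne_zero) (by rw [hk]; exact pow_dvd_pow p (by omega)), hk,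
      Nat.pow_div (by omega) hp.pos, show k - (k - 1) = 1 by omega, pow_one]
  have hxo : orderOf (x ^ p ^ (m - 1)) = p := by
    rw [orderOf_pow_of_dvd (pow_ne_zero _ hp.ne_zero) (by rw [hm]; exact pow_dvd_pow p (by omega)), hm,
      Nat.pow_div (by omega) hp.pos, show m - (m - 1) = 1 by omega, pow_one]
  have hmem : c ^ p ^ (k - 1) ∈ zpowers (x ^ p ^ (m - 1)) := by
    refine mem_zpowers_of_orderOf_dvd (npow_mem_zpowers x _) ?_ (by rw [hco, hxo])
    exact zpowers_le.2 hwx (mem_zpowers_of_orderOf_dvd hwc (npow_mem_zpowers c _) (by rw [hco, hwo]))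
  obtain ⟨j, hj⟩ := mem_zpowers_iff.1 hmem
  set a := x ^ (-(j * ((p ^ (m - k) : ℕ) : ℤ))) with ha
  have hax : Commute a x := (Commute.refl x).zpow_left _
  have hwa : Commute w a := hwxx.zpow_right _
  have hwa' : c * a * c⁻¹ * a⁻¹ ∈ zpowers w := by
    have : ∀ e : ℤ, c * x ^ e * c⁻¹ * (x ^ e)⁻¹ = w⁻¹ ^ e := by
      intro e
      have h1 : c * x * c⁻¹ = w⁻¹ * x := by rw [hw]; group
      rw [← conj_zpow, h1, ((hwxx.inv_left)).mul_zpow, mul_inv_cancel_right]
    rw [ha, this]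
    exact zpow_mem (inv_mem (mem_zpowers w)) _
  obtain ⟨e, he⟩ := mem_zpowers_iff.1 hwa'
  have hz : (w ^ e) ^ p = 1 := by
    rw [← zpow_natCast, ← zpow_mul, mul_comm, zpow_mul, zpow_natCast, hwq p hp hpc, one_zpow]
  have hba : c * a = w ^ e * (a * c) := by rw [he]; group
  have hpw := mul_pow_of_twist (hwa.zpow_left e) (hwcc.zpow_left e) hba (p ^ (k - 1))
  have hchoose : p ∣ (p ^ (k - 1)).choose 2 := by
    rw [Nat.choose_two_right]
    obtain ⟨l, hl⟩ : ∃ l, p ^ (k - 1) = p * l := ⟨p ^ (k - 2), by rw [← pow_succ']; congr 1; omega⟩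
    rcases hp.eq_two_or_odd with h2 | hodd
    · subst h2
      have hk3 : 3 ≤ k := by
        by_contra hk3
        exact hbad ⟨rfl, by omega⟩
      obtain ⟨l', hl'⟩ : ∃ l', 2 ^ (k - 1) = 2 * (2 * l') :=
        ⟨2 ^ (k - 3), by rw [← pow_succ', ← pow_succ']; congr 1; omega⟩
      rw [hl', mul_assoc, Nat.mul_div_cancel_left _ (by norm_num), mul_assoc]
      exact Dvd.intro _ rfl
    · rw [hl]
      have hev : 2 ∣ l * (p * l - 1) := by
        rcases Nat.even_or_odd l with hl2 | hl2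
        · exact dvd_mul_of_dvd_left hl2.two_dvd _
        · refine dvd_mul_of_dvd_right ?_ _
          have : Odd (p * l) := (Nat.odd_iff.2 hodd).mul hl2
          exact (Nat.Odd.sub_odd this odd_one).two_dvd
      rw [mul_assoc, Nat.mul_div_assoc _ hev]
      exact Dvd.intro _ rfl
  obtain ⟨l, hl⟩ := hchoose
  have hone : (a * c) ^ p ^ (k - 1) = 1 := by
    rw [hpw, hl, pow_mul, hz, one_pow, one_mul, ← hj, ha, ← zpow_natCast (x ^ _) (p ^ (k - 1)), ← zpow_mul,
      ← zpow_natCast x (p ^ (m - 1)), ← zpow_mul, ← zpow_add]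
    rw [show -(j * ((p ^ (m - k) : ℕ) : ℤ)) * ((p ^ (k - 1) : ℕ) : ℤ) + ((p ^ (m - 1) : ℕ) : ℤ) * j = 0 by
      rw [show p ^ (m - 1) = p ^ (m - k) * p ^ (k - 1) by rw [← pow_add]; congr 1; omega, Nat.cast_mul]
      ring, zpow_zero]
  have hsmall : orderOf (a * c) < orderOf c := by
    refine lt_of_le_of_lt (orderOf_le_of_pow_eq_one (pow_pos hp.pos _) hone) ?_
    rw [hk]
    exact Nat.pow_lt_pow_right hp.one_lt (by omega)
  have := hcmin _ hsmall x
  apply hxc
  have h1 := hax.symm.inv_right.mul_right this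
  rwa [inv_mul_cancel_left] at h1

end Cfsg.Agent.EvenCyclicNorm
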