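import Cfsg.Agent.Lib.EvenCyclicNorm.TwoGroup
import Cfsg.Agent.Lib.EvenCyclicNorm.Dedekind
import Cfsg.Agent.Lib.PCore.Basic

/-!
# Groups in which cyclic subgroups of even order share their normaliser with all their subgroups

`N(⟨x⟩) = C(u)` when `u` is the involution of `⟨x⟩`, and `N(⟨g⟩) = C(u)` when `g ≠ 1` has odd order and
commutes with the involution `u`.  So `C(u)` is soluble: its elements of odd order form an abelian
normal subgroup.
-/

set_option autoImplicit false
set_option linter.style.haveILetI false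

namespace Cfsg.Agent.EvenCyclicNorm

open Subgroup

variable {G : Type*} [Group G]

/-- The normaliser conditions in terms of elements. -/
structure Hyp (G : Type*) [Group G] : Prop where
  cyc : CycN G
  odd_norm : ∀ g u : G, orderOf u = 2 → Commute g u → Odd (orderOf g) → ∀ c, Commute c u →
    c * g * c⁻¹ ∈ zpowers g
  odd_cent : ∀ g u : G, orderOf u = 2 → Commute g u → Odd (orderOf g) → g ≠ 1 → ∀ c,
    c * g * c⁻¹ ∈ zpowers g → Commute c u

theorem Hyp.of_injective (h : Hyp G) {H : Type*} [Group H] (f : H →* G) (hf : Function.Injective f) : Hyp H := by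
  have hz : ∀ a b : H, a ∈ zpowers b ↔ f a ∈ zpowers (f b) := fun a b => by
    constructor
    · intro hm
      obtain ⟨i, hi⟩ := mem_zpowers_iff.1 hm
      exact mem_zpowers_iff.2 ⟨i, by rw [← map_zpow, hi]⟩
    · intro hm
      obtain ⟨i, hi⟩ := mem_zpowers_iff.1 hm
      exact mem_zpowers_iff.2 ⟨i, hf (by rw [map_zpow, hi])⟩
  have ho : ∀ a : H, orderOf (f a) = orderOf a := fun a => orderOf_injective f hf a
  have hcm : ∀ a b : H, Commute (f a) (f b) → Commute a b := fun a b e => hf (by rw [map_mul, map_mul, e.eq])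
  refine ⟨fun x u hu hux c hcu => ?_, fun g u hu hgu hg c hcu => ?_, fun g u hu hgu hg hg1 c hc => ?_⟩
  · have := h.cyc (f x) (f u) (by rw [ho, hu]) ((hz u x).1 hux) (f c) (hcu.map f)
    rw [← map_inv, ← map_mul, ← map_mul] at this
    exact (hz _ x).2 this
  · have := h.odd_norm (f g) (f u) (by rw [ho, hu]) (hgu.map f) (by rwa [ho]) (f c) (hcu.map f)
    rw [← map_inv, ← map_mul, ← map_mul] at this
    exact (hz _ g).2 this
  · refine hcm _ _ (h.odd_cent (f g) (f u) (by rw [ho, hu]) (hgu.map f) (by rwa [ho])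
      (fun e => hg1 (hf (by rw [e, map_one]))) (f c) ?_)
    rw [← map_inv, ← map_mul, ← map_mul]
    exact (hz _ g).1 hc

theorem mem_normalizer_zpowers [Finite G] {c x : G} (h : c * x * c⁻¹ ∈ zpowers x) :
    c ∈ normalizer (zpowers x : Set G) := by
  have hle : (zpowers x).map (MulAut.conj c).toMonoidHom ≤ zpowers x := by
    rw [MonoidHom.map_zpowers, zpowers_le]; exact h
  have heq : (zpowers x).map (MulAut.conj c).toMonoidHom = zpowers x :=
    eq_of_le_of_card_ge hle (card_map_of_injective (MulAut.conj c).injective).ge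
  refine mem_normalizer_iff.2 fun y => ⟨fun hy => hle (mem_map_of_mem _ hy), fun hy => ?_⟩
  rw [← heq] at hy
  obtain ⟨y', hy', he⟩ := hy
  exact (MulAut.conj c).injective he ▸ hy'

theorem mem_normalizer_zpowers_iff [Finite G] {c x : G} :
    c ∈ normalizer (zpowers x : Set G) ↔ c * x * c⁻¹ ∈ zpowers x :=
  ⟨fun h => (mem_normalizer_iff.1 h x).1 (mem_zpowers x), mem_normalizer_zpowers⟩

theorem conj_self_iff {c u : G} (hu : orderOf u = 2) : c * u * c⁻¹ ∈ zpowers u ↔ Commute c u := by
  refine ⟨fun h => ?_, fun h => by rw [h.eq, mul_inv_cancel_right]; exact mem_zpowers u⟩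
  obtain ⟨i, hi⟩ := mem_zpowers_iff.1 h
  rcases Int.emod_two_eq_zero_or_one i with he | he
  · exfalso
    rw [← Int.mul_ediv_add_emod i 2, he, add_zero, zpow_mul, zpow_two, mul_self_of_orderOf hu, one_zpow,
      eq_comm, mul_inv_eq_one, mul_eq_left] at hi
    exact ne_one_of_orderOf hu hi
  · rw [← Int.mul_ediv_add_emod i 2, he, zpow_add, zpow_mul, zpow_two, mul_self_of_orderOf hu, one_zpow,
      one_mul, zpow_one, eq_mul_inv_iff_mul_eq] at hi
    exact hi.symm

/-- The hypothesis of the theorem gives `Hyp`. -/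
theorem Hyp.of_normalizers [Finite G]
    (hii : ∀ X : Subgroup G, IsCyclic ↥X → Even (Nat.card ↥X) → ∀ Y : Subgroup G, Y ≤ X → Y ≠ ⊥ →
      normalizer (X : Set G) = normalizer (Y : Set G)) : Hyp G := by
  have key : ∀ x y : G, 2 ∣ orderOf x → y ∈ zpowers x → y ≠ 1 → ∀ c,
      (c * x * c⁻¹ ∈ zpowers x ↔ c * y * c⁻¹ ∈ zpowers y) := by
    intro x y hx hy hy1 c
    rw [← mem_normalizer_zpowers_iff, ← mem_normalizer_zpowers_iff,
      hii (zpowers x) inferInstance (by rw [Nat.card_zpowers]; exact even_iff_two_dvd.2 hx) (zpowers y)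
        (zpowers_le.2 hy) (by simpa [zpowers_eq_bot] using hy1)]
  have hmul : ∀ g u : G, orderOf u = 2 → Commute g u → Odd (orderOf g) →
      2 ∣ orderOf (g * u) ∧ u ∈ zpowers (g * u) ∧ g ∈ zpowers (g * u) := by
    intro g u hu hgu hg
    have hcop : (orderOf g).Coprime (orderOf u) := by rw [hu]; exact hg.coprime_two_right
    have hum : u ∈ zpowers (g * u) := by
      obtain ⟨k, hk⟩ := hg
      refine mem_zpowers_iff.2 ⟨orderOf g, ?_⟩
      rw [zpow_natCast, hgu.mul_pow, pow_orderOf_eq_one, one_mul, hk, pow_succ, pow_mul, pow_two,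
        mul_self_of_orderOf hu, one_pow, one_mul]
    refine ⟨?_, hum, ?_⟩
    · rw [hgu.orderOf_mul_eq_mul_orderOf_of_coprime hcop, hu]; exact dvd_mul_left 2 _
    · have := mul_mem (mem_zpowers (g * u)) (inv_mem hum)
      rwa [mul_inv_cancel_right] at this
  refine ⟨fun x u hu hux c hcu => ?_, fun g u hu hgu hg c hcu => ?_, fun g u hu hgu hg hg1 c hc => ?_⟩
  · refine (key x u (hu ▸ orderOf_dvd_of_mem_zpowers hux) hux (ne_one_of_orderOf hu) c).2 ((conj_self_iff hu).2 hcu)
  · obtain ⟨h1, h2, h3⟩ := hmul g u hu hgu hg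
    by_cases hg1 : g = 1
    · subst hg1; simp
    exact (key _ g h1 h3 hg1 c).1 ((key _ u h1 h2 (ne_one_of_orderOf hu) c).2 ((conj_self_iff hu).2 hcu))
  · obtain ⟨h1, h2, h3⟩ := hmul g u hu hgu hg
    exact (conj_self_iff hu).1 ((key _ u h1 h2 (ne_one_of_orderOf hu) c).1 ((key _ g h1 h3 hg1 c).2 hc))

namespace Hyp

variable (h : Hyp G)
include h

theorem cycN_sub (S : Subgroup G) : CycN S := (h.of_injective S.subtype S.subtype_injective).cyc

/-- Two involutions centralising a non-trivial element of odd order have the same centraliser. -/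
theorem cent_eq {g u v : G} (hu : orderOf u = 2) (hv : orderOf v = 2) (hg : Odd (orderOf g)) (hg1 : g ≠ 1)
    (hgu : Commute g u) (hgv : Commute g v) (c : G) : Commute c u ↔ Commute c v :=
  ⟨fun hc => h.odd_cent g v hv hgv hg hg1 c (h.odd_norm g u hu hgu hg c hc),
    fun hc => h.odd_cent g u hu hgu hg hg1 c (h.odd_norm g v hv hgv hg c hc)⟩

/-- A 2-element with involution `u` commutes with the elements of odd order of `C(u)`. -/
theorem commute_two_odd [Finite G] {x g u : G} (hu : orderOf u = 2) (hux : u ∈ zpowers x) {k : ℕ}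
    (hx : orderOf x = 2 ^ k) (hg : Odd (orderOf g)) (hgu : Commute g u) : Commute x g := by
  have hxu : Commute x u := by
    obtain ⟨i, hi⟩ := mem_zpowers_iff.1 hux
    exact hi ▸ (Commute.refl x).zpow_right i
  have h1 : x * g * x⁻¹ * g⁻¹ ∈ zpowers g :=
    mul_mem (h.odd_norm g u hu hgu hg x hxu) (inv_mem (mem_zpowers g))
  have h2 : x * g * x⁻¹ * g⁻¹ ∈ zpowers x := by
    rw [show x * g * x⁻¹ * g⁻¹ = x * (g * x * g⁻¹)⁻¹ by group]
    exact mul_mem (mem_zpowers x) (inv_mem (h.cyc x u hu hux g hgu))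
  have h3 : x * g * x⁻¹ * g⁻¹ = 1 := by
    rw [← orderOf_eq_one_iff]
    refine Nat.eq_one_of_dvd_coprimes ?_ (orderOf_dvd_of_mem_zpowers h1) (orderOf_dvd_of_mem_zpowers h2)
    rw [hx]
    exact hg.coprime_two_right.pow_right k
  rwa [mul_inv_eq_one, mul_inv_eq_iff_eq_mul] at h3

end Hyp

/-- The elements of odd order of `C(u)`. -/
def core (u : G) : Subgroup G :=
  (Cfsg.oddCore (centralizer ({u} : Set G))).map (centralizer ({u} : Set G)).subtype

variable [Finite G]

theorem mem_core (h : Hyp G) {u : G} (hu : orderOf u = 2) {c : G} :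
    c ∈ core u ↔ Commute c u ∧ Odd (orderOf c) := by
  constructor
  · rintro ⟨⟨c, hc⟩, hm, rfl⟩
    refine ⟨mem_centralizer_singleton_iff.1 hc, ?_⟩
    show Odd (orderOf c)
    rw [← Subgroup.orderOf_mk _ hc]
    exact PCore.odd_card_oddCore.of_dvd_nat ((Cfsg.oddCore _).orderOf_dvd_natCard hm)
  · rintro ⟨hc, hodd⟩
    set C := centralizer ({u} : Set G) with hC
    have hcC : c ∈ C := mem_centralizer_singleton_iff.2 hc
    refine ⟨⟨c, hcC⟩, ?_, rfl⟩
    haveI : (zpowers (⟨c, hcC⟩ : C)).Normal := by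
      refine ⟨fun y hy a => ?_⟩
      obtain ⟨i, rfl⟩ := mem_zpowers_iff.1 hy
      rw [← conj_zpow]
      refine zpow_mem ?_ i
      obtain ⟨j, hj⟩ := mem_zpowers_iff.1 (h.odd_norm c u hu hc hodd a (mem_centralizer_singleton_iff.1 a.2))
      exact mem_zpowers_iff.2 ⟨j, Subtype.ext hj⟩
    exact PCore.le_pPrimeCore (N := zpowers (⟨c, hcC⟩ : C))
      (by rw [Nat.card_zpowers, Subgroup.orderOf_mk]; exact hodd.coprime_two_right) (mem_zpowers _)

theorem core_comm (h : Hyp G) {u : G} (hu : orderOf u = 2) {a b : G} (ha : a ∈ core u) (hb : b ∈ core u) :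
    Commute a b := by
  have hall : AllN (core u) := by
    intro x c
    have hx := (mem_core h hu).1 x.2
    obtain ⟨j, hj⟩ := mem_zpowers_iff.1 (h.odd_norm (x : G) u hu hx.1 hx.2 c ((mem_core h hu).1 c.2).1)
    exact mem_zpowers_iff.2 ⟨j, Subtype.ext hj⟩
  rcases comm_or_inverted hall with hc | ⟨c, -, hc, -⟩
  · exact congrArg Subtype.val (hc ⟨a, ha⟩ ⟨b, hb⟩).eq
  · have := ((mem_core h hu).1 c.2).2
    rw [orderOf_coe, hc] at this
    exact absurd this (by decide)

/-- Centralisers of involutions are soluble. -/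
theorem isSolvable_centralizer (h : Hyp G) {u : G} (hu : orderOf u = 2) :
    Group.IsSolvable (centralizer ({u} : Set G)) := by
  set C := centralizer ({u} : Set G) with hC
  set O : Subgroup C := Cfsg.oddCore C with hO
  haveI : O.Normal := by rw [hO]; infer_instance
  haveI : Fact (Nat.Prime 2) := ⟨Nat.prime_two⟩
  have hq : IsPGroup 2 (C ⧸ O) := by
    intro q
    obtain ⟨c, rfl⟩ := QuotientGroup.mk_surjective q
    obtain ⟨k, m, hm, hkm⟩ := Nat.exists_eq_two_pow_mul_odd (orderOf_pos c).ne'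
    refine ⟨k, ?_⟩
    rw [← QuotientGroup.mk_pow, QuotientGroup.eq_one_iff]
    have hmo : Odd (orderOf (c ^ 2 ^ k)) := by
      rw [orderOf_pow_of_dvd (by positivity) (hkm ▸ dvd_mul_right _ _), hkm, Nat.mul_div_cancel_left _ (by positivity)]
      exact hm
    obtain ⟨d, hd, hdc⟩ := (mem_core h hu).2 ⟨mem_centralizer_singleton_iff.1 (c ^ 2 ^ k).2,
      by rwa [orderOf_coe]⟩
    exact Subtype.ext hdc ▸ hd
  haveI := hq.isNilpotent
  haveI : Group.IsSolvable O := by
    letI : CommGroup O :=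
      { (inferInstance : Group O) with
        mul_comm := fun a b => Subtype.ext (Subtype.ext
          (core_comm h hu (mem_map_of_mem C.subtype a.2) (mem_map_of_mem C.subtype b.2)).eq) }
    infer_instance
  exact (Group.isSolvable_iff_subgroup_quotient O).2 ⟨inferInstance, inferInstance⟩

end Cfsg.Agent.EvenCyclicNorm
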