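import Cfsg.Agent.Lib.EvenCyclicNorm.Basic
import Cfsg.Agent.S0205

/-!
# A semisimple group with soluble involution centralisers has a simple minimal normal subgroup
-/

set_option autoImplicit false
set_option linter.style.haveILetI false

namespace Cfsg.Agent.EvenCyclicNorm

open Subgroup

variable {G : Type*} [Group G] [Finite G]

/-- A subgroup commuting with a non-soluble one is soluble. -/
theorem isSolvable_of_commute (h : Hyp G) {A B : Subgroup G} (hA : ¬ Group.IsSolvable A)
    (hc : ∀ a ∈ A, ∀ b ∈ B, Commute a b) : Group.IsSolvable B := by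
  haveI : Fact (Nat.Prime 2) := ⟨Nat.prime_two⟩
  refine S0205.result (Nat.not_even_iff_odd.1 fun he => hA ?_)
  obtain ⟨b, hb⟩ := exists_prime_orderOf_dvd_card' (G := B) 2 he.two_dvd
  have hb' : orderOf (b : G) = 2 := by rwa [orderOf_coe]
  have hle : A ≤ centralizer ({(b : G)} : Set G) := fun a ha =>
    mem_centralizer_singleton_iff.2 (hc a ha b b.2)
  haveI := isSolvable_centralizer h hb'
  exact Group.isSolvable_of_isSolvable_injective (f := inclusion hle) (inclusion_injective hle)

/-- A semisimple group with `Hyp` has a simple non-abelian normal subgroup with trivial centraliser. -/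
theorem exists_simple_normal [Nontrivial G] (h : Hyp G)
    (hss : ∀ N : Subgroup G, N.Normal → Group.IsSolvable ↥N → N = ⊥) :
    ∃ N : Subgroup G, ∃ _ : N.Normal, IsSimpleGroup N ∧ ¬ (∀ a b : N, a * b = b * a) ∧
      centralizer (N : Set G) = ⊥ := by
  classical
  obtain ⟨N, ⟨hNn, hN0⟩, hNmin⟩ := Set.exists_min_image {N : Subgroup G | N.Normal ∧ N ≠ ⊥}
    (fun N => Nat.card N) (Set.toFinite _) ⟨⊤, inferInstance, top_ne_bot⟩
  have hNns : ¬ Group.IsSolvable N := fun hs => hN0 (hss N hNn hs)
  set P : Set (Subgroup G) := {T | T ≠ ⊥ ∧ T ≤ N ∧ ∀ n ∈ N, ∀ t ∈ T, n * t * n⁻¹ ∈ T} with hP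
  obtain ⟨T, ⟨hT0, hTN, hTn⟩, hTmin⟩ := Set.exists_min_image P (fun T => Nat.card T) (Set.toFinite _)
    ⟨N, hN0, le_rfl, fun n hn t ht => mul_mem (mul_mem hn ht) (inv_mem hn)⟩
  have hTeq : T = N := by
    by_contra hne
    let cj : G → Subgroup G := fun g => T.map (MulAut.conj g).toMonoidHom
    have hmem : ∀ g x, x ∈ cj g ↔ g⁻¹ * x * g ∈ T := fun g x => by
      show x ∈ T.map (MulAut.conj g).toMonoidHom ↔ _
      rw [mem_map_equiv, MulAut.conj_symm_apply]
    have hcP : ∀ g, cj g ∈ P := fun g => by
      refine ⟨fun e => hT0 ?_, fun x hx => ?_, fun n hn x hx => ?_⟩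
      · exact (map_eq_bot_iff_of_injective _ (MulAut.conj g).injective).1 e
      · have := hNn.conj_mem _ (hTN ((hmem g x).1 hx)) g
        rwa [show g * (g⁻¹ * x * g) * g⁻¹ = x by group] at this
      · rw [hmem] at hx ⊢
        have hn' : g⁻¹ * n * g ∈ N := by
          have := hNn.conj_mem n hn g⁻¹
          rwa [inv_inv] at this
        have := hTn _ hn' _ hx
        rwa [show g⁻¹ * n * g * (g⁻¹ * x * g) * (g⁻¹ * n * g)⁻¹ = g⁻¹ * (n * x * n⁻¹) * g by group] at this
    have hcard : ∀ g, Nat.card (cj g) = Nat.card T := fun g => card_map_of_injective (MulAut.conj g).injective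
    have hdisj : ∀ a b, cj a = cj b ∨ ∀ x ∈ cj a, ∀ y ∈ cj b, Commute x y := by
      intro a b
      by_cases hI : cj a ⊓ cj b = ⊥
      · refine Or.inr fun x hx y hy => ?_
        have h1 : x * y * x⁻¹ * y⁻¹ ∈ cj a ⊓ cj b := by
          refine mem_inf.2 ⟨?_, ?_⟩
          · rw [show x * y * x⁻¹ * y⁻¹ = x * (y * x⁻¹ * y⁻¹) by group]
            exact mul_mem hx ((hcP a).2.2 y ((hcP b).2.1 hy) _ (inv_mem hx))
          · exact mul_mem ((hcP b).2.2 x ((hcP a).2.1 hx) _ hy) (inv_mem hy)
        rw [hI, mem_bot, mul_inv_eq_one, mul_inv_eq_iff_eq_mul] at h1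
        exact h1
      · left
        have hIP : cj a ⊓ cj b ∈ P := ⟨hI, inf_le_left.trans (hcP a).2.1, fun n hn x hx =>
          ⟨(hcP a).2.2 n hn x hx.1, (hcP b).2.2 n hn x hx.2⟩⟩
        have h1 := eq_of_le_of_card_ge (inf_le_left : cj a ⊓ cj b ≤ cj a) ((hcard a).le.trans (hTmin _ hIP))
        have h2 := eq_of_le_of_card_ge (inf_le_right : cj a ⊓ cj b ≤ cj b) ((hcard b).le.trans (hTmin _ hIP))
        exact h1.symm.trans h2
    have h1T : cj 1 = T := Subgroup.ext fun x => by rw [hmem]; simp
    obtain ⟨g, hg⟩ : ∃ g, cj g ≠ T := by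
      by_contra hcon
      push Not at hcon
      have hTnorm : T.Normal := ⟨fun t ht g => by
        rw [← hcon g, hmem]; simpa [mul_assoc] using ht⟩
      exact hne (eq_of_le_of_card_ge hTN (hNmin T ⟨hTnorm, hT0⟩))
    by_cases hTs : Group.IsSolvable T
    · -- `T` is commutative, so `N` is
      have hTab : ∀ a ∈ T, ∀ b ∈ T, Commute a b := by
        by_contra hcon
        have hne' : ⁅T, T⁆ ≠ ⊥ := fun e => hcon fun a ha b hb =>
          commutatorElement_eq_one_iff_commute.1 (mem_bot.1 (e ▸ commutator_mem_commutator ha hb))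
        have hle : ⁅T, T⁆ ≤ T := commutator_le.2 fun a ha b hb =>
          mul_mem (mul_mem (mul_mem ha hb) (inv_mem ha)) (inv_mem hb)
        have hnorm : ∀ n ∈ N, ∀ t ∈ ⁅T, T⁆, n * t * n⁻¹ ∈ ⁅T, T⁆ := by
          intro n hn t ht
          have hmap : T.map (MulAut.conj n).toMonoidHom ≤ T := by
            rintro _ ⟨y, hy, rfl⟩
            exact hTn n hn y hy
          have := mem_map_of_mem (MulAut.conj n).toMonoidHom ht
          rw [map_commutator] at this
          exact commutator_mono hmap hmap this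
        have h1 := hTmin _ ⟨hne', hle.trans hTN, hnorm⟩
        have h2 : ⁅T, T⁆ = T := eq_of_le_of_card_ge hle h1
        haveI : Nontrivial T := (nontrivial_iff_ne_bot T).2 hT0
        have h3 := Group.IsSolvable.commutator_lt_top_of_nontrivial T
        refine h3.ne ((map_injective T.subtype_injective) ?_)
        rw [map_subtype_commutator, h2, ← MonoidHom.range_eq_map, range_subtype]
      apply hNns
      have hNeq : normalClosure (T : Set G) = N := by
        haveI := hNn
        refine eq_of_le_of_card_ge (normalClosure_le_normal hTN) (hNmin _ ⟨normalClosure_normal, fun e => hT0 ?_⟩)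
        exact le_bot_iff.1 (e ▸ le_normalClosure)
      have hS : ∀ x ∈ Group.conjugatesOfSet (T : Set G), ∀ y ∈ Group.conjugatesOfSet (T : Set G), Commute x y := by
        intro x hx y hy
        obtain ⟨s, hs, hxs⟩ := Group.mem_conjugatesOfSet_iff.1 hx
        obtain ⟨t, ht, hyt⟩ := Group.mem_conjugatesOfSet_iff.1 hy
        obtain ⟨a, rfl⟩ := isConj_iff.1 hxs
        obtain ⟨b, rfl⟩ := isConj_iff.1 hyt
        have hxa : a * s * a⁻¹ ∈ cj a := (hmem a _).2 (by simpa [mul_assoc] using hs)
        have hyb : b * t * b⁻¹ ∈ cj b := (hmem b _).2 (by simpa [mul_assoc] using ht)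
        rcases hdisj a b with e | e
        · have hy' := (hmem a _).1 (e ▸ hyb)
          have := (hTab s hs _ hy')
          have h' := (Commute.conj_iff a).2 this
          rwa [show a * (a⁻¹ * (b * t * b⁻¹) * a) * a⁻¹ = b * t * b⁻¹ by group] at h'
        · exact e _ hxa _ hyb
      have hcomm : ∀ x ∈ N, ∀ y ∈ N, Commute x y := by
        have h1 : normalClosure (T : Set G) ≤ centralizer (normalClosure (T : Set G) : Set G) := by
          have h0 : normalClosure (T : Set G) ≤ centralizer (Group.conjugatesOfSet (T : Set G)) :=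
            (closure_le _).2 fun x hx => mem_centralizer_iff.2 fun y hy => (hS x hx y hy).symm.eq
          refine (closure_le _).2 fun x hx => mem_centralizer_iff.2 fun y hy => ?_
          exact ((mem_centralizer_iff.1 (h0 hy)) x hx).symm
        rw [hNeq] at h1
        exact fun x hx y hy => ((mem_centralizer_iff.1 (h1 hx)) y hy).symm
      letI : CommGroup N :=
        { (inferInstance : Group N) with mul_comm := fun a b => Subtype.ext (hcomm a a.2 b b.2).eq }
      infer_instance
    · rcases hdisj 1 g with e | e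
      · exact hg (e.symm.trans h1T)
      · haveI := isSolvable_of_commute h hTs fun a ha b hb => e a (h1T.symm ▸ ha) b hb
        exact hTs (Group.isSolvable_of_isSolvable_injective
          (f := (equivMapOfInjective T (MulAut.conj g).toMonoidHom (MulAut.conj g).injective).toMonoidHom)
          (MulEquiv.injective _))
  subst hTeq
  haveI : Nontrivial T := (nontrivial_iff_ne_bot T).2 hT0
  have hsimple : IsSimpleGroup T := ⟨fun H hH => by
    by_cases hH0 : H = ⊥
    · exact Or.inl hH0
    right
    have hmem : H.map T.subtype ∈ P := by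
      refine ⟨fun e => hH0 ((map_eq_bot_iff_of_injective _ T.subtype_injective).1 e), map_subtype_le H, ?_⟩
      rintro n hn _ ⟨y, hy, rfl⟩
      exact ⟨⟨n, hn⟩ * y * ⟨n, hn⟩⁻¹, hH.conj_mem y hy ⟨n, hn⟩, rfl⟩
    have h1 := hTmin _ hmem
    rw [card_map_of_injective T.subtype_injective] at h1
    exact eq_of_le_of_card_ge le_top (by rwa [card_top])⟩
  refine ⟨T, hNn, hsimple, fun hab => hNns ?_, ?_⟩
  · letI : CommGroup T := { (inferInstance : Group T) with mul_comm := hab }
    infer_instance
  · haveI := hNn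
    have hs : Group.IsSolvable (centralizer (T : Set G)) := isSolvable_of_commute h hNns fun a ha b hb =>
      mem_centralizer_iff.1 hb a ha
    exact hss _ inferInstance hs

end Cfsg.Agent.EvenCyclicNorm
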