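import Cfsg.Agent.Lib.EvenCyclicNorm.Basic
import Cfsg.Agent.Lib.AutPSL.Group
import Cfsg.Agent.Lib.AutPSLOrder.Main

/-!
# Groups between `PSL₂(q)` and its automorphism group

With the normaliser condition and `q ≠ 4` no element induces a field automorphism, so the group is `PSL₂(q)` or
`PGL₂(q)`.
-/

set_option autoImplicit false
set_option linter.style.haveILetI false
set_option linter.unusedSectionVars false

open Matrix Subgroup
open scoped MatrixGroups

namespace Cfsg.Agent.EvenCyclicNorm.Outer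

open Cfsg.Agent.AutPSL

variable {F : Type*} [Field F] [Fintype F]

local notation "P" => Matrix.ProjectiveSpecialLinearGroup (Fin 2) F
local notation "GL₂" => GL (Fin 2) F
local notation "cP" => (conjP : GL (Fin 2) F →* MulAut (Matrix.ProjectiveSpecialLinearGroup (Fin 2) F))
local notation "fP" => (fieldP : (F ≃+* F) → MulAut (Matrix.ProjectiveSpecialLinearGroup (Fin 2) F))

theorem field_comm (σ : F ≃+* F) (g : GL₂) : fP σ * cP g = cP (FieldExt.glMap σ g) * fP σ :=
  AutPSL.fieldP_mul_conjP (m := 1) σ g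

theorem field_mul (σ τ : F ≃+* F) : fP σ * fP τ = fP (σ * τ) :=
  (map_mul (fieldPHom (m := 1)) σ τ).symm

theorem field_pow (σ : F ≃+* F) (k : ℕ) : fP σ ^ k = fP (σ ^ k) := AutPSL.fieldP_pow (m := 1) σ k

theorem field_one : fP (1 : F ≃+* F) = 1 := AutPSL.fieldP_one (m := 1)

theorem orderOf_field (σ : F ≃+* F) : orderOf (fP σ) = orderOf σ := AutPSL.orderOf_fieldP (m := 1) le_rfl σ

theorem field_eq_conj {σ : F ≃+* F} {g : GL₂} (h : fP σ = cP g) : σ = 1 :=
  AutPSL.fieldP_eq_conjP (m := 1) le_rfl h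

/-- Equal inner-diagonal automorphisms differ by a scalar. -/
theorem entries {g h : GL₂} (e : cP g = cP h) : ∃ c : F, c ≠ 0 ∧ ∀ i j, g.val i j = h.val i j * c := by
  obtain ⟨c, rfl⟩ := (AutPSL.conjP_eq_conjP_iff (m := 1) le_rfl g h).1 e
  refine ⟨c, c.ne_zero, fun i j => ?_⟩
  simp [Units.val_mul, Matrix.GeneralLinearGroup.coe_scalar, Matrix.mul_diagonal]

theorem conj_eq_of_entries {g h : GL₂} (c : Fˣ) (e : ∀ i j, g.val i j = h.val i j * c) : cP g = cP h :=
  (AutPSL.conjP_eq_conjP_iff (m := 1) le_rfl g h).2 ⟨c, Units.ext <| Matrix.ext fun i j => by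
    simp [e i j, Units.val_mul, Matrix.GeneralLinearGroup.coe_scalar, Matrix.mul_diagonal]⟩

/-- The Weyl element. -/
def weyl : GL₂ := ⟨!![0, 1; -1, 0], !![0, -1; 1, 0], by simp [Matrix.one_fin_two], by simp [Matrix.one_fin_two]⟩

/-- A transvection. -/
def tvn : GL₂ := ⟨!![1, 1; 0, 1], !![1, -1; 0, 1], by simp [Matrix.one_fin_two], by simp [Matrix.one_fin_two]⟩

/-- `diag(a, 1)`. -/
def dgl : Fˣ →* GL₂ where
  toFun a := ⟨!![(a : F), 0; 0, 1], !![((a⁻¹ : Fˣ) : F), 0; 0, 1], by simp [Matrix.one_fin_two],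
    by simp [Matrix.one_fin_two]⟩
  map_one' := Units.ext (by simp [Matrix.one_fin_two])
  map_mul' a b := Units.ext (by simp)

theorem dgl_val (a : Fˣ) : (dgl a : GL₂).val = !![(a : F), 0; 0, 1] := rfl

theorem glMap_weyl (σ : F ≃+* F) : FieldExt.glMap σ (weyl : GL₂) = weyl :=
  Units.ext <| Matrix.ext fun i j => by
    fin_cases i <;> fin_cases j <;> simp [FieldExt.glMap_val, weyl]

theorem glMap_tvn (σ : F ≃+* F) : FieldExt.glMap σ (tvn : GL₂) = tvn :=
  Units.ext <| Matrix.ext fun i j => by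
    fin_cases i <;> fin_cases j <;> simp [FieldExt.glMap_val, tvn]

theorem glMap_dgl (σ : F ≃+* F) (a : Fˣ) : FieldExt.glMap σ (dgl a : GL₂) = dgl (Units.map (σ : F →* F) a) :=
  Units.ext <| Matrix.ext fun i j => by
    fin_cases i <;> fin_cases j <;> simp [FieldExt.glMap_val, dgl_val]

theorem det_weyl : (weyl : GL₂).val.det = 1 := by simp [weyl, Matrix.det_fin_two]

theorem det_tvn : (tvn : GL₂).val.det = 1 := by simp [tvn, Matrix.det_fin_two]

theorem det_dgl (a : Fˣ) : (dgl a : GL₂).val.det = a := by simp [dgl_val, Matrix.det_fin_two]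

theorem tvn_pow (n : ℕ) : ((tvn : GL₂) ^ n).val = !![1, (n : F); 0, 1] := by
  induction n with
  | zero => simp [Matrix.one_fin_two]
  | succ n ih => rw [pow_succ, Units.val_mul, ih]; simp [tvn, add_comm]

omit [Fintype F] in
theorem exists_fixed (hF : ∃ s : Finset F, 4 < s.card) (τ : F ≃+* F) (hτ : τ * τ = 1)
    (h2 : ∀ x : F, x + x = 0) : ∃ a : F, a ≠ 0 ∧ a ≠ 1 ∧ τ a = a := by
  classical
  have hττ : ∀ x, τ (τ x) = x := fun x => DFunLike.congr_fun hτ x
  by_contra hcon
  push Not at hcon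
  have key : ∀ a, τ a = a → a = 0 ∨ a = 1 := fun a ha => by
    by_contra h
    push Not at h
    exact hcon a h.1 h.2 ha
  have hroot : ∀ b : F, b ≠ 0 → b = 1 ∨ b * b + b + 1 = 0 := by
    intro b hb
    have hprod : b * τ b = 1 := by
      refine (key _ (by rw [map_mul, hττ, mul_comm])).resolve_left fun e => ?_
      rcases mul_eq_zero.1 e with e | e
      · exact hb e
      · exact hb (τ.map_eq_zero_iff.1 e)
    rcases key (b + τ b) (by rw [map_add, hττ, add_comm]) with e | e
    · left
      have : (b + 1) * (b + 1) = 0 := by linear_combination b * e - hprod + h2 b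
      rw [mul_self_eq_zero] at this
      linear_combination this - h2 1
    · right
      linear_combination b * e - hprod + h2 b
  obtain ⟨s, hs⟩ := hF
  by_cases hex : ∃ b₀ : F, b₀ * b₀ + b₀ + 1 = 0
  · obtain ⟨b₀, hb₀⟩ := hex
    have hsub : s ⊆ {0, 1, b₀, b₀ + 1} := by
      intro b _
      simp only [Finset.mem_insert, Finset.mem_singleton]
      by_cases hb : b = 0
      · exact Or.inl hb
      rcases hroot b hb with e | e
      · exact Or.inr (Or.inl e)
      have : (b - b₀) * (b + b₀ + 1) = 0 := by linear_combination e - hb₀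
      rcases mul_eq_zero.1 this with e | e
      · exact Or.inr (Or.inr (Or.inl (sub_eq_zero.1 e)))
      · exact Or.inr (Or.inr (Or.inr (by linear_combination e - h2 (b₀ + 1))))
    have := (Finset.card_le_card hsub).trans (Finset.card_le_four)
    omega
  · have hsub : s ⊆ {0, 1} := by
      intro b _
      simp only [Finset.mem_insert, Finset.mem_singleton]
      by_cases hb : b = 0
      · exact Or.inl hb
      exact Or.inr ((hroot b hb).resolve_right fun e => hex ⟨b, e⟩)
    have := (Finset.card_le_card hsub).trans Finset.card_le_two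
    omega

theorem nonsquare_mul {a b : F} (ha : ¬ IsSquare a) (hb : ¬ IsSquare b) : IsSquare (a * b) := by
  by_cases hF : ringChar F = 2
  · exact FiniteField.isSquare_of_char_two hF _
  have ha0 : a ≠ 0 := fun e => ha (e ▸ IsSquare.zero)
  have hb0 : b ≠ 0 := fun e => hb (e ▸ IsSquare.zero)
  rw [FiniteField.isSquare_iff hF ha0] at ha
  rw [FiniteField.isSquare_iff hF hb0] at hb
  rw [FiniteField.isSquare_iff hF (mul_ne_zero ha0 hb0), mul_pow,
    (FiniteField.pow_dichotomy hF ha0).resolve_left ha, (FiniteField.pow_dichotomy hF hb0).resolve_left hb]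
  ring

omit [Fintype F] in
theorem isSquare_map_iff (σ : F ≃+* F) {a : F} : IsSquare (σ a) ↔ IsSquare a :=
  ⟨fun h => by simpa using h.map σ.symm, fun h => h.map σ⟩

/-- In an odd field an automorphism fixing all squares is trivial. -/
theorem eq_one_of_fix_squares (σ : F ≃+* F) (h2 : (2 : F) ≠ 0) (h : ∀ b : F, σ (b * b) = b * b) : σ = 1 := by
  refine RingEquiv.ext fun a => ?_
  have h4 : a = (a + 1) / 2 * ((a + 1) / 2) - (a - 1) / 2 * ((a - 1) / 2) := by field_simp; ring
  show σ a = a
  rw [h4, map_sub, h, h]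

variable (Γ : Subgroup (MulAut (Matrix.ProjectiveSpecialLinearGroup (Fin 2) F)))
  (hinn : ∀ x, MulAut.conj x ∈ Γ) (hΓ : Hyp Γ)

section
include hΓ

theorem norm_Γ {g u c : MulAut P} (hg : g ∈ Γ) (hu : u ∈ Γ) (hc : c ∈ Γ) (ho : orderOf u = 2) (hgu : Commute g u)
    (hodd : Odd (orderOf g)) (hcu : Commute c u) : c * g * c⁻¹ ∈ zpowers g := by
  obtain ⟨i, hi⟩ := mem_zpowers_iff.1 (hΓ.odd_norm ⟨g, hg⟩ ⟨u, hu⟩ (by rwa [Subgroup.orderOf_mk])
    (Subtype.ext hgu.eq) (by rwa [Subgroup.orderOf_mk]) ⟨c, hc⟩ (Subtype.ext hcu.eq))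
  exact mem_zpowers_iff.2 ⟨i, congrArg Subtype.val hi⟩

theorem cent_Γ {g u c : MulAut P} (hg : g ∈ Γ) (hu : u ∈ Γ) (hc : c ∈ Γ) (ho : orderOf u = 2) (hgu : Commute g u)
    (hodd : Odd (orderOf g)) (hg1 : g ≠ 1) (hcg : Commute c g) : Commute c u := by
  exact congrArg Subtype.val (hΓ.odd_cent ⟨g, hg⟩ ⟨u, hu⟩ (by rwa [Subgroup.orderOf_mk])
    (Subtype.ext hgu.eq) (by rwa [Subgroup.orderOf_mk]) (fun e => hg1 (congrArg Subtype.val e)) ⟨c, hc⟩
    (mem_zpowers_iff.2 ⟨1, Subtype.ext (by simp [hcg.eq])⟩)).eq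

theorem cyc_Γ {x u c : MulAut P} (hx : x ∈ Γ) (hc : c ∈ Γ) (ho : orderOf u = 2) (hux : u ∈ zpowers x)
    (hcu : Commute c u) : c * x * c⁻¹ ∈ zpowers x := by
  have hu : u ∈ Γ := zpowers_le.2 hx hux
  obtain ⟨i, hi⟩ := mem_zpowers_iff.1 hux
  obtain ⟨j, hj⟩ := mem_zpowers_iff.1 (hΓ.cyc ⟨x, hx⟩ ⟨u, hu⟩ (by rwa [Subgroup.orderOf_mk])
    (mem_zpowers_iff.2 ⟨i, Subtype.ext hi⟩) ⟨c, hc⟩ (Subtype.ext hcu.eq))
  exact mem_zpowers_iff.2 ⟨j, congrArg Subtype.val hj⟩

end

section
include hinn

theorem mem_of_square {g : GL₂} (h : IsSquare g.val.det) : cP g ∈ Γ := by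
  obtain ⟨b, hb⟩ := h
  have hb0 : b ≠ 0 := by
    rintro rfl
    exact (Matrix.GeneralLinearGroup.det g).ne_zero (by rw [Matrix.GeneralLinearGroup.val_det_apply, hb, mul_zero])
  obtain ⟨x, hx⟩ := (AutPSL.conjP_mem_inn_iff (m := 1) le_rfl g).2 ⟨Units.mk0 b hb0, Units.ext (by
    rw [Matrix.GeneralLinearGroup.val_det_apply, Units.val_pow_eq_pow_val, Units.val_mk0, hb, pow_two])⟩
  exact hx ▸ hinn x

theorem weyl_mem : cP weyl ∈ Γ := mem_of_square Γ hinn (by rw [det_weyl]; exact IsSquare.one)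

theorem tvn_mem : cP tvn ∈ Γ := mem_of_square Γ hinn (by rw [det_tvn]; exact IsSquare.one)

include hΓ

/-- No non-trivial field automorphism lies in `Γ`. -/
theorem field_trivial (hF : Fintype.card F ≠ 4) (σ : F ≃+* F) (hσ : fP σ ∈ Γ) : σ = 1 := by
  classical
  by_contra hσ1
  have hwσ : ∀ ρ : F ≃+* F, Commute (cP weyl) (fP ρ) := fun ρ => by
    show cP weyl * fP ρ = fP ρ * cP weyl
    rw [field_comm, glMap_weyl]
  have hvσ : ∀ ρ : F ≃+* F, Commute (cP tvn) (fP ρ) := fun ρ => by
    show cP tvn * fP ρ = fP ρ * cP tvn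
    rw [field_comm, glMap_tvn]
  rcases Nat.even_or_odd (orderOf σ) with he | ho
  · obtain ⟨k, hk⟩ := he
    have hk0 : k ≠ 0 := by
      rintro rfl
      exact (orderOf_pos σ).ne' hk
    set τ := σ ^ k with hτ
    have hτo : orderOf τ = 2 := by
      rw [hτ, orderOf_pow_of_dvd hk0 ⟨2, by omega⟩, hk, ← two_mul, Nat.mul_div_cancel _ (Nat.pos_of_ne_zero hk0)]
    have hu : fP τ ∈ Γ := by rw [hτ, ← field_pow]; exact pow_mem hσ k
    have huo : orderOf (fP τ) = 2 := by rw [orderOf_field, hτo]
    by_cases h2 : ringChar F = 2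
    · have hchar : ∀ x : F, x + x = 0 := fun x => by
        haveI : CharP F 2 := h2 ▸ ringChar.charP F
        exact CharTwo.add_self_eq_zero x
      have hq : Fintype.card F % 2 = 0 := FiniteField.even_card_iff_char_two.1 h2
      obtain ⟨a, ha0, ha1, hτa⟩ := exists_fixed ⟨Finset.univ, by
        rw [Finset.card_univ]
        have h1 : 1 < Fintype.card F := Fintype.one_lt_card
        by_contra hle
        have : Fintype.card F = 2 := by
          haveI : CharP F 2 := h2 ▸ ringChar.charP F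
          obtain ⟨n, hp, hn⟩ := FiniteField.card F 2
          omega
        have hsub : ∀ x : F, τ x = x := by
          have hx : ∀ x : F, x = 0 ∨ x = 1 := by
            have hu : ({0, 1} : Finset F) = Finset.univ :=
              Finset.eq_univ_of_card _ (by rw [Finset.card_pair zero_ne_one, this])
            intro x
            have hx := Finset.mem_univ x
            rw [← hu] at hx
            simpa using hx
          intro x
          rcases hx x with rfl | rfl <;> simp
        rw [show τ = 1 from RingEquiv.ext hsub, orderOf_one] at hτo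
        omega⟩ τ (mul_self_of_orderOf hτo) hchar
      set h := cP (dgl (Units.mk0 a ha0)) with hh
      have hhΓ : h ∈ Γ := mem_of_square Γ hinn (FiniteField.isSquare_of_char_two h2 _)
      have hho : Odd (orderOf h) := by
        refine Odd.of_dvd_nat (n := Fintype.card F - 1) ⟨(Fintype.card F - 2) / 2, by
          have := Fintype.one_lt_card (α := F); omega⟩ (orderOf_dvd_of_pow_eq_one ?_)
        rw [hh, ← map_pow, ← map_pow, show (Units.mk0 a ha0) ^ (Fintype.card F - 1) = 1 from
          Units.ext (by simpa using FiniteField.pow_card_sub_one_eq_one a ha0), map_one, map_one]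
      have hhu : Commute h (fP τ) := by
        show h * fP τ = fP τ * h
        rw [hh, field_comm, glMap_dgl, show Units.map (τ : F →* F) (Units.mk0 a ha0) = Units.mk0 a ha0 from
          Units.ext hτa]
      obtain ⟨i, hi⟩ := mem_zpowers_iff.1 (norm_Γ Γ hΓ hhΓ hu (tvn_mem Γ hinn) huo hhu hho (hvσ τ))
      rw [hh, ← map_zpow, ← map_zpow, ← map_inv, ← map_mul, ← map_mul] at hi
      obtain ⟨c, -, hc⟩ := entries hi.symm
      have h01 := hc 0 1
      generalize Units.mk0 a ha0 ^ i = E at h01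
      simp [Units.val_mul, dgl_val, tvn] at h01
      exact ha1 (by linear_combination -h01)
    · have hvo : Odd (orderOf (cP tvn)) := by
        have hp : Odd (ringChar F) := ((CharP.char_is_prime F (ringChar F))).odd_of_ne_two h2
        refine hp.of_dvd_nat (orderOf_dvd_of_pow_eq_one ?_)
        rw [← map_pow, show (tvn : GL₂) ^ ringChar F = 1 from Units.ext (by
          rw [tvn_pow, CharP.cast_eq_zero, Units.val_one, Matrix.one_fin_two]), map_one]
      obtain ⟨i, hi⟩ := mem_zpowers_iff.1 (norm_Γ Γ hΓ (tvn_mem Γ hinn) hu (weyl_mem Γ hinn) huo (hvσ τ) hvo (hwσ τ))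
      rw [← map_zpow, ← map_inv, ← map_mul, ← map_mul] at hi
      obtain ⟨c, hc0, hc⟩ := entries hi.symm
      have hz : ((tvn : GL₂) ^ i).val 1 0 = 0 := by
        rcases Int.eq_nat_or_neg i with ⟨n, rfl | rfl⟩
        · rw [zpow_natCast, tvn_pow]; simp
        · have hn : ((tvn : GL₂) ^ (-(n : ℤ))).val = !![1, -(n : F); 0, 1] := by
            rw [_root_.zpow_neg, zpow_natCast]
            refine Units.inv_eq_of_mul_eq_one_right ?_
            rw [tvn_pow]; simp [Matrix.one_fin_two]
          rw [hn]; simp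
      have h10 := hc 1 0
      rw [hz, zero_mul] at h10
      simp [Units.val_mul, weyl, tvn] at h10
  · have hσo : Odd (orderOf (fP σ)) := by rwa [orderOf_field]
    have hw2 : orderOf (cP weyl) = 2 := by
      refine orderOf_two (fun e => ?_) ?_
      · rw [← map_one cP] at e
        obtain ⟨c, hc0, hc⟩ := entries e
        have h01 := hc 0 1
        simp [weyl] at h01
      · rw [← map_mul, ← map_one cP]
        exact conj_eq_of_entries (-1) fun i j => by
          fin_cases i <;> fin_cases j <;> simp [Units.val_mul, weyl]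
    have := cent_Γ Γ hΓ hσ (weyl_mem Γ hinn) (tvn_mem Γ hinn) hw2 (hwσ σ).symm hσo
      (fun e => hσ1 (field_eq_conj (g := 1) (by rw [e, map_one]))) (hvσ σ)
    have e : cP (tvn * weyl) = cP (weyl * tvn) := by rw [map_mul, map_mul]; exact this.eq
    obtain ⟨c, -, hc⟩ := entries e
    have h00 := hc 0 0
    simp [Units.val_mul, weyl, tvn] at h00

/-- Every element of `Γ` is inner-diagonal. -/
theorem subset_conjP (hF : Fintype.card F ≠ 4) (β : MulAut P) (hβ : β ∈ Γ) : ∃ g, β = cP g := by
  classical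
  obtain ⟨g, σ, γ, hγ, hd⟩ := AutPSL.exists_decomposition (m := 1) le_rfl β
  obtain ⟨g, σ, rfl⟩ : ∃ (g : GL₂) (σ : F ≃+* F), β = cP g * fP σ := by
    rcases hγ with rfl | rfl
    · exact ⟨g, σ, by rw [hd, mul_one]⟩
    · obtain ⟨J, hJ⟩ := AutPSLOrder.invP_eq_conjP (F := F)
      refine ⟨g * FieldExt.glMap σ J, σ, ?_⟩
      rw [hd, map_mul]
      show cP g * fP σ * invP = cP g * cP (FieldExt.glMap σ J) * fP σ
      rw [hJ, mul_assoc, field_comm, ← mul_assoc]
  set d := g.val.det with hd'
  have hd0 : d ≠ 0 := by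
    rw [hd', ← Matrix.GeneralLinearGroup.val_det_apply]
    exact (Matrix.GeneralLinearGroup.det g).ne_zero
  have hsq : σ * σ = 1 := by
    refine field_trivial Γ hinn hΓ hF _ ?_
    have hdet : (g * FieldExt.glMap σ g).val.det = d * σ d := by
      rw [Units.val_mul, Matrix.det_mul, FieldExt.glMap_val, ← RingEquiv.coe_toRingHom,
        ← RingHom.mapMatrix_apply, ← RingHom.map_det]
    have hsqr : IsSquare (d * σ d) := by
      by_cases hd2 : IsSquare d
      · exact hd2.mul ((isSquare_map_iff σ).2 hd2)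
      · exact nonsquare_mul hd2 fun e => hd2 ((isSquare_map_iff σ).1 e)
    have hin : cP (g * FieldExt.glMap σ g) ∈ Γ := mem_of_square Γ hinn (by rwa [hdet])
    have := mul_mem (inv_mem hin) (mul_mem hβ hβ)
    have e : cP g * fP σ * (cP g * fP σ) = cP (g * FieldExt.glMap σ g) * fP (σ * σ) := by
      rw [mul_assoc, ← mul_assoc (fP σ), field_comm, mul_assoc, field_mul, ← mul_assoc, ← map_mul]
    rwa [e, inv_mul_cancel_left] at this
  by_cases hd2 : IsSquare d
  · have hg : cP g ∈ Γ := mem_of_square Γ hinn hd2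
    have : fP σ ∈ Γ := by
      have := mul_mem (inv_mem hg) hβ
      rwa [inv_mul_cancel_left] at this
    exact ⟨g, by rw [field_trivial Γ hinn hΓ hF σ this, field_one, mul_one]⟩
  by_cases hσ1 : σ = 1
  · exact ⟨g, by rw [hσ1, field_one, mul_one]⟩
  exfalso
  have hchar : ringChar F ≠ 2 := fun e => hd2 (FiniteField.isSquare_of_char_two e d)
  have h2 : (2 : F) ≠ 0 := Ring.two_ne_zero hchar
  have hσσ : ∀ a, σ (σ a) = a := fun a => DFunLike.congr_fun hsq a
  obtain ⟨γ₀, hγ₀⟩ := IsCyclic.exists_generator (α := Fˣ)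
  have hγns : ¬ IsSquare (γ₀ : F) := by
    rintro hs
    obtain ⟨i, hi⟩ := mem_zpowers_iff.1 (hγ₀ (Units.mk0 d hd0))
    have e : ((γ₀ ^ i : Fˣ) : F) = d := by rw [hi]; rfl
    apply hd2
    rw [← e, Units.val_zpow_eq_zpow_val]
    exact hs.zpow i
  set γ₁ : Fˣ := Units.map (σ : F →* F) γ₀ with hγ₁
  set N : Fˣ := γ₀ * γ₁ with hN
  -- the element `x`
  set x : MulAut P := cP (dgl γ₀) * fP σ with hx
  have hxΓ : x ∈ Γ := by
    have hin : cP (dgl γ₀ * g⁻¹) ∈ Γ := by
      refine mem_of_square Γ hinn ?_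
      rw [Units.val_mul, Matrix.det_mul, det_dgl, Matrix.coe_units_inv, Matrix.det_nonsing_inv, Ring.inverse_eq_inv']
      exact nonsquare_mul hγns fun e => hd2 (by simpa using e.inv)
    have := mul_mem hin hβ
    rwa [map_mul, map_inv, mul_assoc, inv_mul_cancel_left] at this
  have hx2 : x * x = cP (dgl N) := by
    rw [hx, mul_assoc, ← mul_assoc (fP σ), field_comm, mul_assoc, field_mul, hsq, field_one, mul_one, glMap_dgl,
      ← map_mul, ← map_mul, hN]
  have hNfix : σ (N : F) = N := by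
    rw [hN, hγ₁]
    simp [hσσ, mul_comm]
  have hNsq : IsSquare (N : F) := by
    rw [hN, Units.val_mul, hγ₁]
    exact nonsquare_mul hγns fun e => hγns ((isSquare_map_iff σ).1 e)
  -- `-1` is a power of `N`
  obtain ⟨k, hk⟩ : ∃ k : ℕ, ((N ^ k : Fˣ) : F) = -1 := by
    rcases Nat.even_or_odd (orderOf N) with he | ho
    · obtain ⟨k, hk⟩ := he
      refine ⟨k, ?_⟩
      have h1 : ((N ^ k : Fˣ) : F) * (N ^ k : Fˣ) = 1 := by
        rw [← Units.val_mul, ← pow_add, ← hk, pow_orderOf_eq_one, Units.val_one]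
      refine (mul_self_eq_one_iff.1 h1).resolve_left fun e => ?_
      have hpos : 0 < orderOf N := orderOf_pos N
      have hdvd : orderOf N ∣ k := orderOf_dvd_of_pow_eq_one (Units.ext e : N ^ k = 1)
      have := Nat.le_of_dvd (by omega) hdvd
      omega
    · exfalso
      obtain ⟨j, hj⟩ := ho
      set e : F := γ₀ * (N : F) ^ j with he
      have hens : ¬ IsSquare e := by
        intro hs
        apply hγns
        have hNj : (N : F) ^ j ≠ 0 := pow_ne_zero _ N.ne_zero
        rw [show (γ₀ : F) = e / (N : F) ^ j by rw [he, mul_div_cancel_right₀ _ hNj]]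
        exact hs.div (hNsq.pow j)
      have hee : e * σ e = 1 := by
        have h1 : (N : F) ^ (2 * j + 1) = 1 := by
          rw [← Units.val_pow_eq_pow_val, ← hj, pow_orderOf_eq_one, Units.val_one]
        rw [he, map_mul, map_pow, hNfix]
        have hN' : (N : F) = γ₀ * σ γ₀ := by rw [hN, hγ₁]; rfl
        calc (γ₀ : F) * (N : F) ^ j * (σ γ₀ * (N : F) ^ j) = (γ₀ * σ γ₀) * (N : F) ^ (2 * j) := by ring
          _ = 1 := by rw [← hN', ← pow_succ', h1]
      by_cases hm1 : e = -1
      · apply hens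
        rw [hm1, FiniteField.isSquare_neg_one_iff]
        obtain ⟨K, -, hcard⟩ := AutPSLOrder.exists_fixed_card σ
        have ho2 : orderOf σ = 2 := orderOf_two hσ1 hsq
        rw [ho2] at hcard
        intro h3
        rw [hcard, Nat.pow_mod] at h3
        have : Nat.card K % 4 < 4 := Nat.mod_lt _ (by norm_num)
        interval_cases (Nat.card K % 4) <;> simp_all
      · have hy : 1 + σ e ≠ 0 := by
          intro h0
          have hσe : σ e = -1 := by linear_combination h0
          exact hm1 (by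
            rw [hσe] at hee
            linear_combination -hee)
        have he' : σ (1 + σ e) = e * (1 + σ e) := by
          rw [map_add, map_one, hσσ]
          linear_combination -hee
        apply hens
        rw [show e = σ (1 + σ e) / (1 + σ e) by rw [he', mul_div_cancel_right₀ _ hy]]
        by_cases hs : IsSquare (1 + σ e)
        · exact ((isSquare_map_iff σ).2 hs).div hs
        · rw [div_eq_mul_inv]
          exact nonsquare_mul (fun h' => hs ((isSquare_map_iff σ).1 h')) fun h' => hs (by simpa using h'.inv)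
  -- the involution of `⟨x⟩` commutes with `w`
  have hu2 : x ^ (2 * k) = cP (dgl (N ^ k)) := by
    rw [pow_mul, pow_two, hx2, ← map_pow, ← map_pow]
  have huo : orderOf (cP (dgl (N ^ k))) = 2 := by
    generalize N ^ k = E at hk
    refine orderOf_two (fun e => ?_) ?_
    · rw [← map_one cP] at e
      obtain ⟨c, -, hc⟩ := entries e
      have h00 := hc 0 0
      have h11 := hc 1 1
      simp [dgl_val, hk] at h00 h11
      exact h2 (by linear_combination h11 - h00)
    · rw [← map_mul, ← map_mul, show E * E = 1 from Units.ext (by rw [Units.val_mul, hk]; simp),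
        map_one, map_one]
  have hwu : Commute (cP weyl) (cP (dgl (N ^ k))) := by
    show cP weyl * cP (dgl (N ^ k)) = cP (dgl (N ^ k)) * cP weyl
    rw [← map_mul, ← map_mul]
    generalize N ^ k = E at hk
    exact conj_eq_of_entries (-1) fun i j => by
      fin_cases i <;> fin_cases j <;> simp [Units.val_mul, weyl, dgl_val, hk]
  obtain ⟨n, hn⟩ := Submonoid.mem_powers_iff _ _ |>.1
    (mem_powers_iff_mem_zpowers.2 (cyc_Γ Γ hΓ hxΓ (weyl_mem Γ hinn) huo
      (hu2 ▸ pow_mem (mem_zpowers x) _) hwu))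
  have hconj : cP weyl * x * (cP weyl)⁻¹ = cP (weyl * dgl γ₀ * weyl⁻¹) * fP σ := by
    have hcw : (fP σ) * (cP weyl)⁻¹ = (cP weyl)⁻¹ * fP σ := by
      rw [← map_inv, field_comm, map_inv, glMap_weyl, map_inv]
    rw [hx, mul_assoc, mul_assoc, hcw, map_mul, map_mul, map_inv]
    simp only [mul_assoc]
  rw [hconj] at hn
  rcases Nat.even_or_odd n with ⟨j, hj⟩ | ⟨j, hj⟩
  · rw [hj, ← two_mul, pow_mul, pow_two, hx2, ← map_pow, ← map_pow, eq_comm, ← eq_inv_mul_iff_mul_eq,
      ← map_inv, ← map_mul] at hn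
    exact hσ1 (field_eq_conj hn)
  · rw [hj, pow_succ, pow_mul, pow_two, hx2, ← map_pow, ← map_pow, hx, ← mul_assoc, ← map_mul, ← map_mul,
      mul_right_cancel_iff] at hn
    obtain ⟨c, -, hc⟩ := entries hn
    have h00 := hc 0 0
    have h11 := hc 1 1
    have hE : (N : F) ^ j = ((N ^ j : Fˣ) : F) := (Units.val_pow_eq_pow_val N j).symm
    generalize N ^ j = E at h00 h11 hE
    simp [weyl, dgl_val, Units.val_mul, ← hE] at h00 h11
    -- `N ^ j * γ₀ = c` and `1 = γ₀ * c`
    apply hσ1
    have key : (N : F) ^ j * ((γ₀ : F) * γ₀) = 1 := by linear_combination (γ₀ : F) * h00 - h11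
    have hfix : σ ((γ₀ : F) * γ₀) = γ₀ * γ₀ := by
      have h1 := congrArg σ key
      rw [map_mul σ ((N : F) ^ j), map_pow, hNfix, map_one] at h1
      exact mul_left_cancel₀ (pow_ne_zero _ N.ne_zero) (h1.trans key.symm)
    refine eq_one_of_fix_squares σ h2 fun b => ?_
    by_cases hb : b = 0
    · subst hb; simp
    obtain ⟨i, hi⟩ := mem_zpowers_iff.1 (hγ₀ (Units.mk0 b hb))
    have e : b * b = ((γ₀ : F) * γ₀) ^ i := by
      rw [mul_zpow, ← Units.val_zpow_eq_zpow_val, hi, Units.val_mk0]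
    rw [e, map_zpow₀, hfix]

end

/-- **The step from the simple case.** -/
theorem pgl_or_psl {G : Type*} [Group G] [Finite G] (h : Hyp G) (M : Subgroup G) [M.Normal]
    (hC : centralizer (M : Set G) = ⊥) (e : M ≃* P) (hF : Fintype.card F ≠ 4) :
    Nonempty (G ≃* P) ∨ Nonempty (G ≃* Matrix.ProjGenLinGroup (Fin 2) F) := by
  classical
  set φ : G →* MulAut P := (MulAut.congr e).toMonoidHom.comp MulAut.conjNormal with hφ
  have hφi : Function.Injective φ := by
    rw [injective_iff_map_eq_one]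
    intro g hg
    have h1 : (MulAut.conjNormal g : MulAut M) = 1 := (MulAut.congr e).injective (hg.trans (map_one _).symm)
    have : g ∈ centralizer (M : Set G) := mem_centralizer_iff.2 fun m hm => by
      have := congrArg Subtype.val (DFunLike.congr_fun h1 ⟨m, hm⟩)
      rw [MulAut.conjNormal_apply] at this
      exact (mul_inv_eq_iff_eq_mul.1 this).symm
    rwa [hC, mem_bot] at this
  have hφM : ∀ m : M, φ m = MulAut.conj (e m) := fun m => MulEquiv.ext fun y => by
    obtain ⟨m', rfl⟩ := e.surjective y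
    rw [MulAut.conj_apply, ← map_inv, ← map_mul, ← map_mul]
    show e (MulAut.conjNormal (m : G) (e.symm (e m'))) = _
    rw [e.symm_apply_apply]
    exact congrArg e (Subtype.ext (MulAut.conjNormal_apply _ _))
  set Γ := φ.range with hΓdef
  have hinn : ∀ x, MulAut.conj x ∈ Γ := fun x => ⟨(e.symm x : M), by rw [hφM, e.apply_symm_apply]⟩
  let eG : G ≃* Γ := MonoidHom.ofInjective hφi
  have hΓ : Hyp Γ := h.of_injective eG.symm.toMonoidHom eG.symm.injective
  have hle : ∀ β ∈ Γ, ∃ g, β = cP g := fun β hβ => subset_conjP Γ hinn hΓ hF β hβ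
  by_cases hall : ∀ g : GL₂, cP g ∈ Γ → IsSquare g.val.det
  · left
    have htop : M = ⊤ := by
      refine eq_top_iff.2 fun g _ => ?_
      obtain ⟨k, hk⟩ := hle (φ g) ⟨g, rfl⟩
      obtain ⟨b, hb⟩ := hall k (hk ▸ ⟨g, rfl⟩)
      have hb0 : b ≠ 0 := by
        rintro rfl
        exact (Matrix.GeneralLinearGroup.det k).ne_zero (by rw [Matrix.GeneralLinearGroup.val_det_apply, hb, mul_zero])
      obtain ⟨x, hx⟩ := (AutPSL.conjP_mem_inn_iff (m := 1) le_rfl k).2 ⟨Units.mk0 b hb0, Units.ext (by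
        rw [Matrix.GeneralLinearGroup.val_det_apply, Units.val_pow_eq_pow_val, Units.val_mk0, hb, pow_two])⟩
      have : φ g = φ (e.symm x : M) := by rw [hk, hφM, e.apply_symm_apply]; exact hx.symm
      exact hφi this ▸ (e.symm x).2
    exact ⟨((Subgroup.topEquiv).symm.trans (MulEquiv.subgroupCongr htop.symm)).trans e⟩
  · right
    push Not at hall
    obtain ⟨g₁, hg₁, hns⟩ := hall
    have heq : Γ = (cP).range := by
      refine le_antisymm (fun β hβ => ?_) ?_
      · obtain ⟨g, hg⟩ := hle β hβ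
        exact ⟨g, hg.symm⟩
      · rintro _ ⟨k, rfl⟩
        by_cases hk : IsSquare k.val.det
        · exact mem_of_square Γ hinn hk
        · have hin : cP (g₁⁻¹ * k) ∈ Γ := by
            refine mem_of_square Γ hinn ?_
            rw [Units.val_mul, Matrix.det_mul, Matrix.coe_units_inv, Matrix.det_nonsing_inv, Ring.inverse_eq_inv']
            exact nonsquare_mul (fun h' => hns (by simpa using h'.inv)) hk
          have := mul_mem hg₁ hin
          rwa [← map_mul, mul_inv_cancel_left] at this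
    have hker : (cP).ker = center GL₂ := by
      ext g
      rw [MonoidHom.mem_ker, AutPSL.conjP_eq_one_iff (m := 1) le_rfl,
        Matrix.GeneralLinearGroup.center_eq_range_scalar]
      exact ⟨fun ⟨c, hc⟩ => ⟨c, hc.symm⟩, fun ⟨c, hc⟩ => ⟨c, hc.symm⟩⟩
    exact ⟨eG.trans ((MulEquiv.subgroupCongr heq).trans
      ((QuotientGroup.quotientKerEquivRange cP).symm.trans (QuotientGroup.quotientMulEquivOfEq hker)))⟩

end Cfsg.Agent.EvenCyclicNorm.Outer
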