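import Cfsg.Agent.Lib.EvenCyclicNorm.Basic
import Cfsg.Agent.Lib.ZStar.Consumers
import Cfsg.Agent.Lib.ZStar.Main
import Cfsg.Agent.Lib.Transfer.Thompson
import Cfsg.Agent.Lib.PGroup.UniqueOrderP
import Cfsg.Agent.Lib.Perm.SmallSuborbit
import Cfsg.Agent.Lib.Forms.BinDihedral
import Cfsg.Agent.Lib.PSL2.MinimalSimple
import Cfsg.Agent.S0205
import Cfsg.Agent.S0508
import Cfsg.Agent.S2202

/-!
# Simple groups with the normaliser condition are `PSL₂(q)`

Either all centralisers of involutions are abelian, or a Sylow 2-subgroup is dihedral and the centraliser of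
its central involution satisfies the hypotheses of Brauer, Suzuki and Wall.
-/

set_option autoImplicit false
set_option linter.style.haveILetI false

namespace Cfsg.Agent.EvenCyclicNorm

open Subgroup

/-- The conclusion. -/
def IsPSLTwo (G : Type*) [Group G] : Prop :=
  ∃ (F : Type) (_ : Field F) (_ : Fintype F), 3 < Fintype.card F ∧
    Nonempty (G ≃* Matrix.ProjectiveSpecialLinearGroup (Fin 2) F)

variable {G : Type*} [Group G] [Finite G] [IsSimpleGroup G] (hna : ¬ ∀ a b : G, a * b = b * a)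
include hna

theorem isPSLTwo_of_equiv {F : Type} [Field F] [Fintype F]
    (e : G ≃* Matrix.ProjectiveSpecialLinearGroup (Fin 2) F) : IsPSLTwo G := by
  refine ⟨F, inferInstance, inferInstance, ?_, ⟨e⟩⟩
  by_contra hle
  haveI := PSL2.isSolvable_psl_small (F := F) (by omega)
  exact hna (IsSimpleGroup.comm_iff_isSolvable.2
    (Group.isSolvable_of_isSolvable_injective (f := e.toMonoidHom) e.injective))

theorem even_card : 2 ∣ Nat.card G := by
  by_contra h2
  exact hna (IsSimpleGroup.comm_iff_isSolvable.2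
    (S0205.result (Nat.not_even_iff_odd.1 fun h => h2 h.two_dvd)))

theorem center_eq_bot : center G = ⊥ := by
  rcases (inferInstance : (center G).Normal).eq_bot_or_eq_top with h | h
  · exact h
  · exact absurd (fun a b => (mem_center_iff.1 (h.symm ▸ mem_top b) a)) hna

theorem exists_conj_ne (S : Sylow 2 G) {u : G} (hu : orderOf u = 2) (huS : u ∈ (S : Subgroup G)) :
    ∃ g : G, g * u * g⁻¹ ∈ (S : Subgroup G) ∧ g * u * g⁻¹ ≠ u := by
  by_contra h
  push Not at h
  have hz := ZStar.inZStar (ZStar.isolated_of_sylow hu huS h)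
  have hO : Cfsg.oddCore G = ⊥ := by
    rcases (inferInstance : (Cfsg.oddCore G).Normal).eq_bot_or_eq_top with h | h
    · exact h
    · have hodd := PCore.odd_card_oddCore (G := G)
      rw [h, card_top] at hodd
      exact absurd (even_iff_two_dvd.2 (even_card hna)) (Nat.not_even_iff_odd.2 hodd)
  have := ZStar.mem_center_of_oddCore_eq_bot hz hO
  rw [center_eq_bot hna, mem_bot] at this
  exact ne_one_of_orderOf hu this

omit hna [IsSimpleGroup G] in
theorem exists_sylow_mem {u : G} (hu : orderOf u = 2) : ∃ S : Sylow 2 G, u ∈ (S : Subgroup G) := by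
  haveI : Fact (Nat.Prime 2) := ⟨Nat.prime_two⟩
  obtain ⟨S, hS⟩ := (IsPGroup.of_card (p := 2) (n := 1) (G := zpowers u) (by
    rw [Nat.card_zpowers, hu, pow_one])).exists_le_sylow
  exact ⟨S, hS (mem_zpowers u)⟩

theorem isPSLTwo_of_abelian
    (hC : ∀ t : G, orderOf t = 2 → IsMulCommutative ↥(centralizer ({t} : Set G))) : IsPSLTwo G := by
  haveI : Fact (Nat.Prime 2) := ⟨Nat.prime_two⟩
  have he := even_card hna
  rcases S2202.result (even_iff_two_dvd.2 he) hC with hcyc | hnorm | ⟨F, iF, iF', A, iA, iA', -, -, ⟨e⟩⟩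
  · exfalso
    obtain ⟨u, hu⟩ := exists_prime_orderOf_dvd_card' 2 he
    obtain ⟨S, huS⟩ := exists_sylow_mem hu
    obtain ⟨g, hg, hne⟩ := exists_conj_ne hna S hu huS
    obtain ⟨⟨c, hc⟩, hgen⟩ := (hcyc S).exists_generator
    have hmem : ∀ x ∈ (S : Subgroup G), x ∈ zpowers c := fun x hx => by
      obtain ⟨i, hi⟩ := mem_zpowers_iff.1 (hgen ⟨x, hx⟩)
      exact mem_zpowers_iff.2 ⟨i, congrArg Subtype.val hi⟩
    exact hne (involution_unique (by rw [← MulAut.conj_apply, MulEquiv.orderOf_eq, hu]) hu (hmem _ hg) (hmem _ huS))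
  · exfalso
    obtain ⟨u, hu⟩ := exists_prime_orderOf_dvd_card' 2 he
    obtain ⟨S, huS⟩ := exists_sylow_mem hu
    rcases (hnorm S).eq_bot_or_eq_top with h | h
    · rw [h, mem_bot] at huS; exact ne_one_of_orderOf hu huS
    · haveI : Group.IsNilpotent G := (PCore.isPGroup_top_iff.1 (h ▸ S.isPGroup')).isNilpotent
      exact hna (IsSimpleGroup.comm_iff_isSolvable.2 inferInstance)
  · let f : G →* A := (MonoidHom.snd _ _).comp e.toMonoidHom
    have hA : Subsingleton A := by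
      rcases (inferInstance : f.ker.Normal).eq_bot_or_eq_top with h | h
      · exfalso
        exact hna fun a b => (MonoidHom.ker_eq_bot_iff f).1 h (by rw [map_mul, map_mul, mul_comm])
      · have hf : ∀ a : A, a = 1 := fun a => by
          obtain ⟨x, hx⟩ := e.surjective (1, a)
          have : f x = 1 := MonoidHom.mem_ker.1 (h ▸ mem_top x)
          rwa [show f x = a from congrArg Prod.snd hx] at this
        exact ⟨fun a b => by rw [hf a, hf b]⟩
    have hs : Function.Injective ((MonoidHom.fst _ _).comp e.toMonoidHom) := fun x y hxy =>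
      e.injective (Prod.ext hxy (Subsingleton.elim _ _))
    let eSL : G ≃* Matrix.SpecialLinearGroup (Fin 2) F := MulEquiv.ofBijective _ ⟨hs, fun s => by
      obtain ⟨x, hx⟩ := e.surjective (s, 1)
      exact ⟨x, congrArg Prod.fst hx⟩⟩
    have hc : center (Matrix.SpecialLinearGroup (Fin 2) F) = ⊥ := by
      rw [eq_bot_iff_forall]
      intro z hz
      have : eSL.symm z ∈ center G := mem_center_iff.2 fun g => eSL.injective (by
        rw [map_mul, map_mul, eSL.apply_symm_apply]; exact mem_center_iff.1 hz _)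
      rw [center_eq_bot hna, mem_bot] at this
      simpa using congrArg eSL this
    exact isPSLTwo_of_equiv hna (eSL.trans ((QuotientGroup.quotientMulEquivOfEq hc).trans
      (QuotientGroup.quotientBot (G := Matrix.SpecialLinearGroup (Fin 2) F))).symm)

variable (h : Hyp G)
include h

/-- In a Sylow subgroup a square involution is central. -/
theorem root_central (S : Sylow 2 G) {r v : G} (hr : r ∈ (S : Subgroup G)) (hrv : r * r = v) (hv : orderOf v = 2)
    {s : G} (hs : s ∈ (S : Subgroup G)) : Commute s v := by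
  have hvS : v ∈ (S : Subgroup G) := hrv ▸ mul_mem hr hr
  exact congrArg Subtype.val (commute_of_root S.isPGroup' (h.cycN_sub _) (c := ⟨r, hr⟩) (u := ⟨v, hvS⟩)
    (Subtype.ext hrv) (by rwa [Subgroup.orderOf_mk]) ⟨s, hs⟩).eq

/-- Roots of distinct involutions are fixed or inverted together. -/
theorem uniform_sylow (S : Sylow 2 G) {k r r' v v' : G} (hk : k ∈ (S : Subgroup G)) (hr : r ∈ (S : Subgroup G))
    (hr' : r' ∈ (S : Subgroup G)) (hrv : r * r = v) (hrv' : r' * r' = v') (hv : orderOf v = 2)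
    (hv' : orderOf v' = 2) (hne : v ≠ v') :
    Commute r r' ∧
    ((k * r * k⁻¹ = r ∧ k * r' * k⁻¹ = r') ∨ (k * r * k⁻¹ = r⁻¹ ∧ k * r' * k⁻¹ = r'⁻¹)) := by
  have hvS : v ∈ (S : Subgroup G) := hrv ▸ mul_mem hr hr
  have hvS' : v' ∈ (S : Subgroup G) := hrv' ▸ mul_mem hr' hr'
  have c1 : ∀ {a}, a ∈ (S : Subgroup G) → Commute a v := fun ha => root_central hna h S hr hrv hv ha
  have c2 : ∀ {a}, a ∈ (S : Subgroup G) → Commute a v' := fun ha => root_central hna h S hr' hrv' hv' ha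
  set T : Subgroup G := (S : Subgroup G) with hT
  let kk : T := ⟨k, hk⟩
  let rr : T := ⟨r, hr⟩
  let rr' : T := ⟨r', hr'⟩
  let vv : T := ⟨v, hvS⟩
  let vv' : T := ⟨v', hvS'⟩
  have h2 : IsPGroup 2 T := S.isPGroup'
  have e1 : rr * rr = vv := Subtype.ext hrv
  have e2 : rr' * rr' = vv' := Subtype.ext hrv'
  have o1 : orderOf vv = 2 := by rwa [Subgroup.orderOf_mk]
  have o2 : orderOf vv' = 2 := by rwa [Subgroup.orderOf_mk]
  have hne' : vv ≠ vv' := fun e => hne (congrArg Subtype.val e)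
  refine ⟨congrArg Subtype.val (comm_of_normalize h2 (h.cycN_sub T) o1 o2 (root_mem e1) (root_mem e2) hne'
    (Subtype.ext (c1 hr').eq) (Subtype.ext (c2 hr).eq)).eq, ?_⟩
  rcases uniform h2 (h.cycN_sub T) (k := kk) e1 e2 o1 o2 hne' (Subtype.ext (c2 hr).eq) (Subtype.ext (c1 hr').eq)
    (Subtype.ext (c1 hk).eq) (Subtype.ext (c2 hk).eq) with ⟨a, b⟩ | ⟨a, b⟩
  · exact Or.inl ⟨congrArg Subtype.val a, congrArg Subtype.val b⟩
  · exact Or.inr ⟨congrArg Subtype.val a, congrArg Subtype.val b⟩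

omit hna h [IsSimpleGroup G] in
theorem exists_root_mem (S : Sylow 2 G) {x : G} (hx : x ∈ (S : Subgroup G)) (hx2 : x * x ≠ 1) :
    ∃ r v, r ∈ (S : Subgroup G) ∧ r ∈ zpowers x ∧ r * r = v ∧ orderOf v = 2 ∧ v ∈ zpowers (x * x) := by
  obtain ⟨⟨r, hr⟩, ⟨v, hv⟩, h1, h2, h3, h4⟩ := exists_root S.isPGroup'
    (x := (⟨x, hx⟩ : (S : Subgroup G))) (fun e => hx2 (congrArg Subtype.val e))
  have hsub : ∀ a b : (S : Subgroup G), a ∈ zpowers b → (a : G) ∈ zpowers (b : G) := fun a b hab => by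
    obtain ⟨i, hi⟩ := mem_zpowers_iff.1 hab
    exact mem_zpowers_iff.2 ⟨i, congrArg Subtype.val hi⟩
  exact ⟨r, v, hr, hsub _ _ h1, congrArg Subtype.val h2, by rwa [← Subgroup.orderOf_mk v hv], hsub _ _ h4⟩

omit hna h [IsSimpleGroup G] in
theorem orderOf_sylow (S : Sylow 2 G) {x : G} (hx : x ∈ (S : Subgroup G)) : ∃ k, orderOf x = 2 ^ k := by
  haveI : Fact (Nat.Prime 2) := ⟨Nat.prime_two⟩
  obtain ⟨k, hk⟩ := (IsPGroup.iff_orderOf.1 S.isPGroup') ⟨x, hx⟩
  exact ⟨k, by rwa [Subgroup.orderOf_mk] at hk⟩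

/-- A unique square involution cannot occur when all involutions of `S` are central. -/
theorem false_of_unique_rooted (S : Sylow 2 G) {r w : G} (hr : r ∈ (S : Subgroup G)) (hrw : r * r = w)
    (hw : orderOf w = 2) (hall : ∀ s ∈ (S : Subgroup G), orderOf s = 2 → ∀ a ∈ (S : Subgroup G), Commute a s)
    (huniq : ∀ r' v, r' ∈ (S : Subgroup G) → r' * r' = v → orderOf v = 2 → v = w) : False := by
  haveI : Fact (Nat.Prime 2) := ⟨Nat.prime_two⟩
  have hwS : w ∈ (S : Subgroup G) := hrw ▸ mul_mem hr hr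
  obtain ⟨g, hg, hne⟩ := exists_conj_ne hna S hw hwS
  have hwo : orderOf (g * w * g⁻¹) = 2 := by rw [← MulAut.conj_apply, MulEquiv.orderOf_eq, hw]
  have hxc : w ∈ centralizer ((S : Subgroup G) : Set G) :=
    mem_centralizer_iff.2 fun a ha => (hall w hwS hw a ha).eq
  obtain ⟨n, hn, he⟩ := S.conj_eq_normalizer_conj_of_mem_centralizer w g⁻¹ hxc (by
    rw [inv_inv]
    exact mem_centralizer_iff.2 fun a ha => (hall _ hg hwo a ha).eq)
  rw [inv_inv] at he
  apply hne
  refine huniq (n⁻¹ * r * n) _ ?_ ?_ hwo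
  · have := (mem_normalizer_iff.1 (inv_mem hn) r).1 hr
    rwa [inv_inv] at this
  · rw [he, ← hrw]; group

/-- A Sylow 2-subgroup all whose involutions are central is commutative. -/
theorem sylow_comm (S : Sylow 2 G)
    (hall : ∀ s ∈ (S : Subgroup G), orderOf s = 2 → ∀ a ∈ (S : Subgroup G), Commute a s) :
    ∀ a ∈ (S : Subgroup G), ∀ b ∈ (S : Subgroup G), Commute a b := by
  have hN : AllN (S : Subgroup G) := by
    intro x c
    by_cases hx1 : x = 1
    · subst hx1; simp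
    obtain ⟨u, hu, hux⟩ := exists_involution S.isPGroup' hx1
    refine (h.cycN_sub _) x u hu hux c (Subtype.ext ?_)
    exact (hall u u.2 (by rwa [orderOf_coe]) c c.2).eq
  rcases comm_or_inverted hN with hc | ⟨c, x, hc, hxc⟩
  · exact fun a ha b hb => congrArg Subtype.val (hc ⟨a, ha⟩ ⟨b, hb⟩).eq
  exfalso
  set w : (S : Subgroup G) := c * c with hw
  have hwo : orderOf w = 2 := by
    rw [hw, ← pow_two, orderOf_pow_of_dvd (by norm_num) (by rw [hc]; norm_num), hc]
  have hcinv : c⁻¹ ≠ c := (root_ne hw.symm hwo).2.2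
  have hwx : w ∈ zpowers x := by
    have h1 : x * c * x⁻¹ * c⁻¹ ∈ zpowers x := by
      rw [show x * c * x⁻¹ * c⁻¹ = x * (c * x * c⁻¹)⁻¹ by group]
      exact mul_mem (mem_zpowers x) (inv_mem (hN x c))
    rw [hxc] at h1
    have := inv_mem h1
    rwa [mul_inv_rev, inv_inv] at this
  refine false_of_unique_rooted hna h S (r := (c : G)) (w := (w : G)) c.2 rfl (by rwa [orderOf_coe]) hall
    fun r v hr hrv hv => ?_
  by_contra hne
  have hvS : v ∈ (S : Subgroup G) := hrv ▸ mul_mem hr hr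
  let rr : (S : Subgroup G) := ⟨r, hr⟩
  let vv : (S : Subgroup G) := ⟨v, hvS⟩
  have e2 : rr * rr = vv := Subtype.ext hrv
  have o2 : orderOf vv = 2 := by rwa [Subgroup.orderOf_mk]
  have hne' : w ≠ vv := fun e => hne (congrArg Subtype.val e).symm
  have hcv : ∀ a : (S : Subgroup G), Commute a vv := fun a => Subtype.ext (hall v hvS hv a a.2).eq
  have hcw : ∀ a : (S : Subgroup G), Commute a w := fun a => Subtype.ext (hall w w.2 (by rwa [orderOf_coe]) a a.2).eq
  have hxr : Commute x rr := comm_of_normalize S.isPGroup' (h.cycN_sub _) hwo o2 hwx (root_mem e2) hne'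
    (hcw rr) (hcv x)
  rcases uniform S.isPGroup' (h.cycN_sub _) (k := x) hw.symm e2 hwo o2 hne' (hcv c) (hcw rr) (hcw x) (hcv x)
    with ⟨a, -⟩ | ⟨-, b⟩
  · exact hcinv (hxc.symm.trans a)
  · rw [hxr.eq, mul_inv_cancel_right] at b
    exact (root_ne e2 o2).2.2 b.symm

omit hna [IsSimpleGroup G] in
theorem mem_core_of {u c : G} (hu : orderOf u = 2) (hc : Commute c u) (ho : Odd (orderOf c)) : c ∈ core u :=
  (mem_core h hu).2 ⟨hc, ho⟩

omit hna [IsSimpleGroup G] in
/-- `C(z)` is commutative when a commutative Sylow subgroup centralises its core. -/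
theorem cent_comm (S : Sylow 2 G) {z : G} (hz : orderOf z = 2)
    (hzc : ∀ a ∈ (S : Subgroup G), Commute a z)
    (hSc : ∀ a ∈ (S : Subgroup G), ∀ b ∈ (S : Subgroup G), Commute a b)
    (hSO : ∀ a ∈ (S : Subgroup G), ∀ b ∈ core z, Commute a b) :
    IsMulCommutative ↥(centralizer ({z} : Set G)) := by
  haveI : Fact (Nat.Prime 2) := ⟨Nat.prime_two⟩
  set C := centralizer ({z} : Set G) with hC
  have hSC : (S : Subgroup G) ≤ C := fun a ha => mem_centralizer_singleton_iff.2 (hzc a ha)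
  have hOC : core z ≤ C := fun a ha => mem_centralizer_singleton_iff.2 ((mem_core h hz).1 ha).1
  let M : Subgroup G := (S : Subgroup G) ⊔ core z
  have hMC : M ≤ C := sup_le hSC hOC
  have hdvd : Nat.card C ∣ Nat.card M := by
    refine (Nat.dvd_iff_prime_pow_dvd_dvd _ _).2 fun q k hq hqk => ?_
    by_cases hq2 : q = 2
    · subst hq2
      refine dvd_trans ?_ (card_dvd_of_le (le_sup_left : (S : Subgroup G) ≤ M))
      exact S.pow_dvd_card_of_pow_dvd_card (hqk.trans (card_subgroup_dvd_card C))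
    · haveI : Fact q.Prime := ⟨hq⟩
      obtain ⟨Q⟩ := (inferInstance : Nonempty (Sylow q C))
      refine (Q.pow_dvd_card_of_pow_dvd_card hqk).trans ?_
      rw [← card_map_of_injective C.subtype_injective]
      refine card_dvd_of_le fun a ha => (le_sup_right : core z ≤ M) ?_
      obtain ⟨a, haQ, rfl⟩ := ha
      refine mem_core_of h hz (mem_centralizer_singleton_iff.1 a.2) ?_
      obtain ⟨i, hi⟩ := (IsPGroup.iff_orderOf.1 Q.isPGroup') ⟨a, haQ⟩
      rw [Subgroup.orderOf_mk] at hi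
      show Odd (orderOf (a : G))
      rw [orderOf_coe, hi]
      exact (hq.odd_of_ne_two hq2).pow
  have hMeq : M = C := eq_of_le_of_card_ge hMC (Nat.le_of_dvd Nat.card_pos hdvd)
  refine ⟨⟨fun a b => Subtype.ext ?_⟩⟩
  have key : C ≤ centralizer ((C : Subgroup G) : Set G) := by
    have h1 : ∀ x ∈ (S : Subgroup G), ∀ y ∈ M, Commute x y := by
      intro x hx
      have : M ≤ centralizer ({x} : Set G) := sup_le
        (fun y hy => mem_centralizer_singleton_iff.2 (hSc x hx y hy).symm.eq)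
        (fun y hy => mem_centralizer_singleton_iff.2 (hSO x hx y hy).symm.eq)
      exact fun y hy => (mem_centralizer_singleton_iff.1 (this hy)).symm
    have h2 : ∀ x ∈ core z, ∀ y ∈ M, Commute x y := by
      intro x hx
      have : M ≤ centralizer ({x} : Set G) := sup_le
        (fun y hy => mem_centralizer_singleton_iff.2 (hSO y hy x hx).eq)
        (fun y hy => mem_centralizer_singleton_iff.2 (core_comm h hz hy hx).eq)
      exact fun y hy => (mem_centralizer_singleton_iff.1 (this hy)).symm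
    rw [← hMeq]
    exact sup_le (fun x hx => mem_centralizer_iff.2 fun y hy => (h1 x hx y hy).symm.eq)
      (fun x hx => mem_centralizer_iff.2 fun y hy => (h2 x hx y hy).symm.eq)
  exact mem_centralizer_iff.1 (key b.2) a a.2

/-- All centralisers of involutions are commutative when those of the involutions of one Sylow subgroup are. -/
theorem isPSLTwo_of_sylow (S : Sylow 2 G)
    (hS : ∀ v ∈ (S : Subgroup G), orderOf v = 2 → IsMulCommutative ↥(centralizer ({v} : Set G))) :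
    IsPSLTwo G := by
  haveI : Fact (Nat.Prime 2) := ⟨Nat.prime_two⟩
  refine isPSLTwo_of_abelian hna fun t ht => ⟨⟨fun a b => Subtype.ext ?_⟩⟩
  obtain ⟨T, hT⟩ := exists_sylow_mem ht
  obtain ⟨g, rfl⟩ := MulAction.exists_smul_eq G S T
  rw [Sylow.coe_subgroup_smul, Subgroup.mem_pointwise_smul_iff_inv_smul_mem] at hT
  have hT' : g⁻¹ * t * g ∈ (S : Subgroup G) := by simpa using hT
  have hc := (hS _ hT' (by
    have := MulEquiv.orderOf_eq (MulAut.conj g⁻¹) t
    rw [MulAut.conj_apply, inv_inv] at this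
    rw [this, ht])).is_comm.comm
  have hm : ∀ x : (centralizer ({t} : Set G)), g⁻¹ * x * g ∈ centralizer ({g⁻¹ * t * g} : Set G) := fun x =>
    mem_centralizer_singleton_iff.2 <| by
      calc g⁻¹ * x * g * (g⁻¹ * t * g) = g⁻¹ * ((x : G) * t) * g := by group
        _ = g⁻¹ * (t * x) * g := by rw [mem_centralizer_singleton_iff.1 x.2]
        _ = g⁻¹ * t * g * (g⁻¹ * x * g) := by group
  have := congrArg Subtype.val (hc ⟨_, hm a⟩ ⟨_, hm b⟩)
  show (a : G) * b = b * a
  calc (a : G) * b = g * ((g⁻¹ * a * g) * (g⁻¹ * b * g)) * g⁻¹ := by group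
    _ = g * ((g⁻¹ * b * g) * (g⁻¹ * a * g)) * g⁻¹ := by exact congrArg (fun y => g * y * g⁻¹) this
    _ = b * a := by group

/-- The dihedral case, from a subgroup `K` of index two. -/
theorem isPSLTwo_of_data (S : Sylow 2 G) (K : Subgroup G) (hKS : K ≤ (S : Subgroup G)) {z : G} (hzK : z ∈ K)
    (hz : orderOf z = 2) {s₀ : G} (hs₀ : s₀ ∈ (S : Subgroup G)) (hs₀K : s₀ ∉ K)
    (hout : ∀ s ∈ (S : Subgroup G), s ∉ K → s * s = 1 ∧ (∀ a ∈ K, s * a * s⁻¹ = a⁻¹) ∧
      ¬ ∀ c, Commute c s ↔ Commute c z)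
    (hidx : ∀ a ∈ (S : Subgroup G), ∀ b ∈ (S : Subgroup G), a ∉ K → b ∉ K → a * b ∈ K)
    (hcen : ∀ v ∈ K, orderOf v = 2 → ∀ c, Commute c v ↔ Commute c z)
    (hpair : ∀ v₁ ∈ K, ∀ v₂ ∈ K, orderOf v₁ = 2 → orderOf v₂ = 2 → v₁ ≠ v₂ → ∀ (k : G) (g : G), k ∈ K →
      orderOf k = 2 → Commute v₁ (g * k * g⁻¹) → Commute v₂ (g * k * g⁻¹) →
      ∃ v ∈ K, orderOf v = 2 ∧ ∀ c, Commute c v ↔ Commute c (g * k * g⁻¹)) :
    IsPSLTwo G := by
  haveI : Fact (Nat.Prime 2) := ⟨Nat.prime_two⟩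
  have hKc : ∀ a ∈ K, ∀ b ∈ K, Commute a b := by
    intro a ha b hb
    obtain ⟨-, hinv, -⟩ := hout s₀ hs₀ hs₀K
    have e := hinv _ (mul_mem ha hb)
    rw [show s₀ * (a * b) * s₀⁻¹ = (s₀ * a * s₀⁻¹) * (s₀ * b * s₀⁻¹) by group, hinv a ha, hinv b hb,
      ← mul_inv_rev, inv_inj] at e
    exact e.symm
  have hcentral : ∀ v ∈ K, orderOf v = 2 → ∀ a ∈ (S : Subgroup G), Commute a v := by
    intro v hv hvo a ha
    by_cases haK : a ∈ K
    · exact hKc a haK v hv
    · have := (hout a ha haK).2.1 v hv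
      rw [inv_eq_of_mul_eq_one_right (mul_self_of_orderOf hvo), mul_inv_eq_iff_eq_mul] at this
      exact this
  have hrel : K.relIndex (S : Subgroup G) = 2 := by
    rw [relIndex, index_eq_two_iff]
    refine ⟨⟨s₀, hs₀⟩, fun b => ?_⟩
    simp only [mem_subgroupOf, coe_mul]
    by_cases hb : (b : G) ∈ K
    · exact Or.inr ⟨hb, fun hm => hs₀K ((mul_mem_cancel_left hb).1 hm)⟩
    · exact Or.inl ⟨hidx _ b.2 _ hs₀ hb hs₀K, hb⟩
  have huniq : ∀ v₁ ∈ K, ∀ v₂ ∈ K, orderOf v₁ = 2 → orderOf v₂ = 2 → v₁ = v₂ := by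
    intro v₁ h1 v₂ h2 o1 o2
    by_contra hne
    obtain ⟨hss, -, -⟩ := hout s₀ hs₀ hs₀K
    have hso : orderOf s₀ = 2 := orderOf_two (fun e => hs₀K (e ▸ one_mem _)) hss
    by_cases hex : ∃ g : G, g * s₀ * g⁻¹ ∈ K
    · obtain ⟨g, hg⟩ := hex
      have e : g⁻¹ * (g * s₀ * g⁻¹) * g⁻¹⁻¹ = s₀ := by group
      obtain ⟨v, hv, hvo, hvc⟩ := hpair v₁ h1 v₂ h2 o1 o2 hne (g * s₀ * g⁻¹) g⁻¹ hg
        (by rw [← MulAut.conj_apply, MulEquiv.orderOf_eq, hso])
        (by rw [e]; exact (hcentral v₁ h1 o1 s₀ hs₀).symm) (by rw [e]; exact (hcentral v₂ h2 o2 s₀ hs₀).symm)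
      rw [e] at hvc
      exact (hout s₀ hs₀ hs₀K).2.2 fun c => (hvc c).symm.trans (hcen v hv hvo c)
    · push Not at hex
      obtain ⟨M, hMn, hMi, -⟩ := Transfer.exists_index_two_of_involution S K hKS hrel s₀
        (by rw [pow_two, hss]) hs₀ hs₀K hex
      rcases hMn.eq_bot_or_eq_top with hM | hM
      · rw [hM, index_bot] at hMi
        haveI : IsCyclic G := isCyclic_of_prime_card (p := 2) hMi
        exact hna fun a b => (IsCyclic.commGroup (α := G)).mul_comm a b
      · rw [hM, index_top] at hMi; omega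
  have hKp : IsPGroup 2 K := S.isPGroup'.to_le hKS
  haveI hKcyc : IsCyclic K := by
    refine PGroup.isCyclic_of_unique_of_isMulCommutative hKp (fun H L hH hL => ?_)
      ⟨⟨fun a b => Subtype.ext (hKc a a.2 b b.2).eq⟩⟩
    have key : ∀ H : Subgroup K, Nat.card H = 2 → ∃ u : K, u ∈ H ∧ orderOf u = 2 ∧ H = zpowers u := by
      intro H hH
      obtain ⟨u, hu⟩ := exists_prime_orderOf_dvd_card' (G := H) 2 (by rw [hH])
      refine ⟨u, u.2, by rwa [orderOf_coe], (eq_of_le_of_card_ge (zpowers_le.2 u.2) ?_).symm⟩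
      rw [Nat.card_zpowers, orderOf_coe, hu, hH]
    obtain ⟨u, -, hu, rfl⟩ := key H hH
    obtain ⟨w, -, hw, rfl⟩ := key L hL
    congr 1
    exact Subtype.ext (huniq u u.2 w w.2 (by rwa [orderOf_coe]) (by rwa [orderOf_coe]))
  set n := Nat.card K with hn
  have hn2 : 2 ≤ n := by
    have := Nat.le_of_dvd Nat.card_pos (K.orderOf_dvd_natCard hzK)
    rwa [hz] at this
  obtain ⟨e⟩ : Nonempty ((S : Subgroup G) ≃* DihedralGroup n) := by
    obtain ⟨hss, hinv, -⟩ := hout s₀ hs₀ hs₀K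
    have hRc : IsCyclic (K.subgroupOf (S : Subgroup G)) :=
      (MulEquiv.isCyclic (subgroupOfEquivOfLe hKS)).2 hKcyc
    refine Forms.nonempty_dihedral_of_cyclic (K.subgroupOf (S : Subgroup G)) ⟨s₀, hs₀⟩ (Subtype.ext hss)
      (fun hm => hs₀K (mem_subgroupOf.1 hm)) (fun g hg => Subtype.ext ?_)
      (by rw [hn, Nat.card_congr (subgroupOfEquivOfLe hKS).toEquiv]) ?_
    · show s₀ * (g : G) * s₀ = ((g : G))⁻¹
      rw [← hinv g (mem_subgroupOf.1 hg), inv_eq_of_mul_eq_one_right hss]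
    · rw [← (K.subgroupOf (S : Subgroup G)).card_mul_index, ← relIndex, hrel,
        Nat.card_congr (subgroupOfEquivOfLe hKS).toEquiv, ← hn, mul_comm]
  have hzc := hcentral z hzK hz
  have hKO : ∀ k ∈ K, ∀ a ∈ core z, Commute k a := by
    intro k hk a ha
    by_cases hk1 : k = 1
    · subst hk1; exact Commute.one_left a
    obtain ⟨⟨v, hvK⟩, hvo, hvk⟩ := exists_involution hKp (x := (⟨k, hk⟩ : K)) fun e => hk1 (congrArg Subtype.val e)
    obtain ⟨i, hi⟩ := mem_zpowers_iff.1 hvk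
    obtain ⟨j, hj⟩ := orderOf_sylow S (hKS hk)
    rw [Subgroup.orderOf_mk] at hvo
    exact h.commute_two_odd hvo (mem_zpowers_iff.2 ⟨i, congrArg Subtype.val hi⟩) hj ((mem_core h hz).1 ha).2
      ((hcen v hvK hvo a).2 ((mem_core h hz).1 ha).1)
  have hnotK : ∀ s ∈ (S : Subgroup G), s ∉ K → ∀ a ∈ core z, Commute s a → a = 1 := by
    intro s hs hsK a ha hsa
    by_contra ha1
    have hso : orderOf s = 2 := orderOf_two (fun e => hsK (e ▸ one_mem _)) (hout s hs hsK).1
    obtain ⟨hac, hao⟩ := (mem_core h hz).1 ha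
    exact (hout s hs hsK).2.2 fun c => h.cent_eq hso hz hao ha1 hsa.symm hac c
  obtain ⟨F, iF, iF', -, ⟨eG⟩⟩ := S0508.result S n hn2 ⟨e⟩ z hz (hKS hzK) (fun s hs => (hzc s hs).eq)
    (core z) rfl
    (fun hO => by
      have hCS : (S : Subgroup G) ⊓ centralizer (core z : Set G) = K := by
        refine le_antisymm (fun s hs => ?_) fun k hk =>
          ⟨hKS hk, mem_centralizer_iff.2 fun a ha => (hKO k hk a ha).symm.eq⟩
        obtain ⟨hsS, hsc⟩ := mem_inf.1 hs
        by_contra hsK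
        exact hO ((eq_bot_iff_forall _).2 fun a ha => hnotK s hsS hsK a ha (mem_centralizer_iff.1 hsc a ha).symm)
      rw [hCS]
      exact ⟨hKcyc, hrel⟩)
    (fun s hs hsO y hy => by
      have hsK : s ∉ K := fun hsK => hsO (mem_centralizer_iff.2 fun a ha => (hKO s hsK a ha).symm.eq)
      obtain ⟨hyc, hyo⟩ := (mem_core h hz).1 hy
      have hss := (hout s hs hsK).1
      have hy' : s * y * s⁻¹ ∈ core z :=
        zpowers_le.2 hy (h.odd_norm y z hz hyc hyo s (hzc s hs))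
      have h2 : s * s⁻¹ = 1 := mul_inv_cancel s
      have hsi : s⁻¹ = s := inv_eq_of_mul_eq_one_right hss
      have hfix : Commute s (y * (s * y * s⁻¹)) := by
        have e1 : s * (y * (s * y * s⁻¹)) * s⁻¹ = (s * y * s⁻¹) * ((s * s) * y * (s * s)⁻¹) := by group
        rw [hss, one_mul, inv_one, mul_one, (core_comm h hz hy' hy).eq, mul_inv_eq_iff_eq_mul] at e1
        exact e1
      have := hnotK s hs hsK _ (mul_mem hy hy') hfix
      exact (inv_eq_of_mul_eq_one_right this).symm)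
    (fun Y hY hY1 m hm => by
      rw [mem_centralizer_singleton_iff]
      obtain ⟨⟨y, hyY⟩, hy1⟩ := ne_bot_iff_exists_ne_one.1 hY1
      obtain ⟨hyc, hyo⟩ := (mem_core h hz).1 (hY hyY)
      have hy' : m * y * m⁻¹ ∈ Y := (mem_normalizer_iff.1 hm y).1 hyY
      obtain ⟨hyc', -⟩ := (mem_core h hz).1 (hY hy')
      set z' := m⁻¹ * z * m with hz'
      have hzo' : orderOf z' = 2 := by
        have := MulEquiv.orderOf_eq (MulAut.conj m⁻¹) z
        rw [MulAut.conj_apply, inv_inv] at this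
        rw [hz', this, hz]
      have hyz' : Commute y z' := by
        show y * z' = z' * y
        calc y * z' = m⁻¹ * ((m * y * m⁻¹) * z) * m := by rw [hz']; group
          _ = m⁻¹ * (z * (m * y * m⁻¹)) * m := by rw [hyc'.eq]
          _ = z' * y := by rw [hz']; group
      have heq := h.cent_eq hzo' hz hyo (fun e => hy1 (Subtype.ext e)) hyz' hyc
      have hz'S : z' ∈ (S : Subgroup G) := by
        have hle : IsPGroup 2 ((S : Subgroup G) ⊔ zpowers z' : Subgroup G) := by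
          refine IsPGroup.to_sup_of_normal_right' S.isPGroup' (IsPGroup.of_card (p := 2) (n := 1) (by
            rw [Nat.card_zpowers, hzo', pow_one])) fun s hs => mem_normalizer_zpowers ?_
          rw [((heq s).2 (hzc s hs)).eq, mul_inv_cancel_right]
          exact mem_zpowers z'
        exact S.is_maximal' hle le_sup_left ▸ (le_sup_right : zpowers z' ≤ _) (mem_zpowers z')
      have hz'K : z' ∈ K := by
        by_contra hn'
        exact (hout z' hz'S hn').2.2 heq
      have := huniq z' hz'K z hzK hzo' hz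
      rw [hz', mul_assoc, inv_mul_eq_iff_eq_mul] at this
      exact this.symm)
  exact isPSLTwo_of_equiv hna eG

omit hna h [IsSimpleGroup G] in
theorem invert_of_prime {a g : G} (ha : a * a = 1) (hp : (orderOf g).Prime) (hag : a * g * a⁻¹ ∈ zpowers g) :
    a * g * a⁻¹ = g ∨ a * g * a⁻¹ = g⁻¹ := by
  haveI : Fact (orderOf g).Prime := ⟨hp⟩
  have hcard : Nat.card (zpowers g) = orderOf g := Nat.card_zpowers g
  obtain ⟨i, hi⟩ := mem_zpowers_iff.1 hag
  set y := g * (a * g * a⁻¹) with hy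
  have hyg : y ∈ zpowers g := mul_mem (mem_zpowers g) hag
  have hfix : a * y * a⁻¹ = y := by
    have e : a * y * a⁻¹ = (a * g * a⁻¹) * ((a * a) * g * (a * a)⁻¹) := by rw [hy]; group
    rw [ha, one_mul, inv_one, mul_one] at e
    rw [e, hy, ← hi]
    exact ((Commute.refl g).zpow_left i).eq
  rcases eq_or_ne y 1 with h1 | h1
  · rw [hy] at h1
    exact Or.inr (inv_eq_of_mul_eq_one_right h1).symm
  · refine Or.inl ?_
    have hgen : (⟨g, mem_zpowers g⟩ : zpowers g) ∈ zpowers (⟨y, hyg⟩ : zpowers g) :=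
      mem_zpowers_of_prime_card hcard fun e => h1 (congrArg Subtype.val e)
    obtain ⟨j, hj⟩ := mem_zpowers_iff.1 hgen
    have hj' : y ^ j = g := congrArg Subtype.val hj
    rw [← hj', ← conj_zpow, hfix]

/-- The case in which the centraliser of a central involution has elements of odd order. -/
theorem isPSLTwo_of_core (S : Sylow 2 G) {z g : G} (hzS : z ∈ (S : Subgroup G)) (hz : orderOf z = 2)
    (hzc : ∀ a ∈ (S : Subgroup G), Commute a z) (hgz : Commute g z) (hgp : (orderOf g).Prime)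
    (hg2 : Odd (orderOf g)) : IsPSLTwo G := by
  haveI : Fact (Nat.Prime 2) := ⟨Nat.prime_two⟩
  have hg1 : g ≠ 1 := fun e => by rw [e, orderOf_one] at hgp; exact Nat.not_prime_one hgp
  set K : Subgroup G := (S : Subgroup G) ⊓ centralizer ({g} : Set G) with hK
  have hmemK : ∀ {a}, a ∈ K ↔ a ∈ (S : Subgroup G) ∧ Commute a g := fun {a} => by
    rw [hK, mem_inf, mem_centralizer_singleton_iff]; rfl
  have hconj : ∀ a ∈ (S : Subgroup G), a * g * a⁻¹ ∈ zpowers g := fun a ha => h.odd_norm g z hz hgz hg2 a (hzc a ha)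
  have hcomm : ∀ a ∈ (S : Subgroup G), ∀ b ∈ (S : Subgroup G), a * b * a⁻¹ * b⁻¹ ∈ K := by
    intro a ha b hb
    refine hmemK.2 ⟨mul_mem (mul_mem (mul_mem ha hb) (inv_mem ha)) (inv_mem hb), ?_⟩
    obtain ⟨i, hi⟩ := mem_zpowers_iff.1 (hconj a ha)
    obtain ⟨j, hj⟩ := mem_zpowers_iff.1 (hconj b hb)
    have key : a * b * g * (a * b)⁻¹ = b * a * g * (b * a)⁻¹ := by
      rw [show a * b * g * (a * b)⁻¹ = a * (b * g * b⁻¹) * a⁻¹ by group,
        show b * a * g * (b * a)⁻¹ = b * (a * g * a⁻¹) * b⁻¹ by group, ← hj, ← conj_zpow, ← hi, ← conj_zpow,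
        ← hj, ← zpow_mul, ← zpow_mul, mul_comm]
    have k2 := congrArg (fun y => (b * a)⁻¹ * y * (b * a)) key
    have e2 : (b * a)⁻¹ * (b * a * g * (b * a)⁻¹) * (b * a) = g := by group
    rw [e2] at k2
    have hfix : Commute ((b * a)⁻¹ * (a * b)) g := by
      rw [commute_iff_eq, ← mul_inv_eq_iff_eq_mul]
      calc (b * a)⁻¹ * (a * b) * g * ((b * a)⁻¹ * (a * b))⁻¹
          = (b * a)⁻¹ * (a * b * g * (a * b)⁻¹) * (b * a) := by group
        _ = g := k2
    obtain ⟨i', hi'⟩ := mem_zpowers_iff.1 (hconj _ (inv_mem (mul_mem hb ha)))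
    have hconjfix : Commute ((b * a) * ((b * a)⁻¹ * (a * b)) * (b * a)⁻¹) (b * a * g * (b * a)⁻¹) :=
      (Commute.conj_iff (b * a)).2 hfix
    rw [show (b * a) * ((b * a)⁻¹ * (a * b)) * (b * a)⁻¹ = a * b * a⁻¹ * b⁻¹ by group] at hconjfix
    have hgen : g ∈ zpowers (b * a * g * (b * a)⁻¹) := by
      rw [inv_inv] at hi'
      refine mem_zpowers_iff.2 ⟨i', ?_⟩
      rw [conj_zpow, hi']; group
    obtain ⟨l, hl⟩ := mem_zpowers_iff.1 hgen
    exact hl ▸ hconjfix.zpow_right l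
  have hKC : ∀ v ∈ K, orderOf v = 2 → ∀ c, Commute c v ↔ Commute c z := fun v hv hvo =>
    h.cent_eq hvo hz hg2 hg1 (hmemK.1 hv).2.symm hgz
  have hinvol : ∀ a ∈ (S : Subgroup G), a ∉ K → a * a = 1 → a * g * a⁻¹ = g⁻¹ := fun a ha haK h2 =>
    (invert_of_prime h2 hgp (hconj a ha)).resolve_left fun e => haK (hmemK.2 ⟨ha, mul_inv_eq_iff_eq_mul.1 e⟩)
  have hprod : ∀ a ∈ (S : Subgroup G), ∀ b ∈ (S : Subgroup G), a ∉ K → b ∉ K → a * a = 1 → b * b = 1 →
      a * b ∈ K := by
    intro a ha b hb haK hbK h2a h2b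
    refine hmemK.2 ⟨mul_mem ha hb, mul_inv_eq_iff_eq_mul.1 ?_⟩
    rw [show a * b * g * (a * b)⁻¹ = a * (b * g * b⁻¹) * a⁻¹ by group, hinvol b hb hbK h2b, ← conj_inv,
      hinvol a ha haK h2a, inv_inv]
  have hfixK : ∀ x ∈ (S : Subgroup G), ∀ v, orderOf v = 2 → v ∈ zpowers x → v ∈ K → x ∈ K := by
    intro x hx v hvo hvx hvK
    obtain ⟨k, hk⟩ := orderOf_sylow S hx
    exact hmemK.2 ⟨hx, h.commute_two_odd hvo hvx hk hg2 (hmemK.1 hvK).2.symm⟩
  -- every element of order at least four lies in `K`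
  have hK4 : ∀ x ∈ (S : Subgroup G), x * x ≠ 1 → x ∈ K := by
    intro x₀ hx₀ hx₀2
    by_contra hx₀K
    obtain ⟨r, w, hr, hrx, hrw, hw, hwx⟩ := exists_root_mem S hx₀ hx₀2
    have hwK : w ∉ K := fun hwK => hx₀K (hfixK x₀ hx₀ w hw
      (zpowers_le.2 (mul_mem (mem_zpowers x₀) (mem_zpowers x₀)) hwx) hwK)
    have hwS : w ∈ (S : Subgroup G) := hrw ▸ mul_mem hr hr
    have hrootK : ∀ r' v, r' ∈ (S : Subgroup G) → r' * r' = v → orderOf v = 2 → v ∈ K → False := by
      intro r' v hr' hv hvo hvK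
      have hwr' : Commute r' w := root_central hna h S hr hrw hw hr'
      have h1 : r' ∈ K := hfixK r' hr' v hvo (root_mem hv) hvK
      have h2 : r' * w ∈ K := hfixK _ (mul_mem hr' hwS) v hvo (root_mem (by
        rw [hwr'.symm.mul_mul_mul_comm, hv, mul_self_of_orderOf hw, mul_one])) hvK
      exact hwK ((mul_mem_cancel_left h1).1 h2)
    have huniq : ∀ r' v, r' ∈ (S : Subgroup G) → r' * r' = v → orderOf v = 2 → v = w := by
      intro r' v hr' hv hvo
      by_contra hne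
      have hvK : v ∉ K := fun hvK => hrootK r' v hr' hv hvo hvK
      have hvS : v ∈ (S : Subgroup G) := hv ▸ mul_mem hr' hr'
      obtain ⟨hrr, -⟩ := uniform_sylow hna h S hr' hr' hr hv hrw hvo hw hne
      have hvw : Commute v w := root_central hna h S hr hrw hw hvS
      refine hrootK (r' * r) (v * w) (mul_mem hr' hr) (by rw [hrr.symm.mul_mul_mul_comm, hv, hrw])
        (orderOf_two (fun e => hne ?_) ?_) (hprod v hvS w hwS hvK hwK (mul_self_of_orderOf hvo)
          (mul_self_of_orderOf hw))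
      · rw [mul_eq_one_iff_eq_inv] at e
        rw [e, inv_eq_of_mul_eq_one_right (mul_self_of_orderOf hw)]
      · rw [hvw.symm.mul_mul_mul_comm, mul_self_of_orderOf hvo, mul_self_of_orderOf hw, one_mul]
    have hrc : ∀ r', r' ∈ (S : Subgroup G) → r' * r' = w → ∀ a ∈ (S : Subgroup G), Commute a r' := by
      intro r' hr' hr'w a ha
      rcases mem_zpowers_root hr'w hw (h.cyc r' w hw (root_mem hr'w) a (root_central hna h S hr hrw hw ha))
        with e | e | e | e
      · exact absurd ((mul_inv_eq_one.1 e).trans (mul_one a).symm |> mul_left_cancel) (root_ne hr'w hw).1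
      · exact mul_inv_eq_iff_eq_mul.1 e
      · exfalso
        refine (root_ne hr'w hw).2.1 ((conj_injective (x := a)) (e.trans ?_))
        show w = a * w * a⁻¹
        rw [(root_central hna h S hr hrw hw ha).eq, mul_inv_cancel_right]
      · exfalso
        apply hwK
        have := inv_mem (hcomm a ha r' hr')
        rwa [e, mul_inv_rev, inv_inv, hr'w] at this
    have hall : ∀ s ∈ (S : Subgroup G), orderOf s = 2 → ∀ a ∈ (S : Subgroup G), Commute a s := by
      intro s hs hso a ha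
      have hsr : Commute s r := hrc r hr hrw s hs
      have h1 := hrc (r * s) (mul_mem hr hs) (by
        rw [hsr.mul_mul_mul_comm, hrw, mul_self_of_orderOf hso, mul_one]) a ha
      have h2 := (hrc r hr hrw a ha).inv_right.mul_right h1
      rwa [inv_mul_cancel_left] at h2
    exact false_of_unique_rooted hna h S hr hrw hw hall huniq
  by_cases hKS : (S : Subgroup G) ≤ K
  · -- the Sylow subgroup centralises `g`
    have hall : ∀ s ∈ (S : Subgroup G), orderOf s = 2 → ∀ a ∈ (S : Subgroup G), Commute a s := fun s hs hso a ha =>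
      (hKC s (hKS hs) hso a).2 (hzc a ha)
    have hSc := sylow_comm hna h S hall
    refine isPSLTwo_of_sylow hna h S fun v hv hvo => ?_
    rw [show centralizer ({v} : Set G) = centralizer ({z} : Set G) by
      ext c; rw [mem_centralizer_singleton_iff, mem_centralizer_singleton_iff]; exact hKC v (hKS hv) hvo c]
    refine cent_comm h S hz hzc hSc fun a ha b hb => ?_
    obtain ⟨hbc, hbo⟩ := (mem_core h hz).1 hb
    by_cases ha1 : a = 1
    · subst ha1; exact Commute.one_left b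
    obtain ⟨⟨w, hwS⟩, hwo, hwa⟩ := exists_involution S.isPGroup' (x := (⟨a, ha⟩ : (S : Subgroup G)))
      fun e => ha1 (congrArg Subtype.val e)
    obtain ⟨i, hi⟩ := mem_zpowers_iff.1 hwa
    obtain ⟨j, hj⟩ := orderOf_sylow S ha
    rw [Subgroup.orderOf_mk] at hwo
    exact h.commute_two_odd hwo (mem_zpowers_iff.2 ⟨i, congrArg Subtype.val hi⟩) hj hbo
      ((hKC w (hKS hwS) hwo b).2 hbc)
  · obtain ⟨s₀, hs₀, hs₀K⟩ := SetLike.not_le_iff_exists.1 hKS
    have hinv2 : ∀ s ∈ (S : Subgroup G), s ∉ K → s * s = 1 := fun s hs hsK => by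
      by_contra h2; exact hsK (hK4 s hs h2)
    refine isPSLTwo_of_data hna h S K inf_le_left (hmemK.2 ⟨hzS, hgz.symm⟩) hz hs₀ hs₀K
      (fun s hs hsK => ⟨hinv2 s hs hsK, fun a ha => ?_, fun e => ?_⟩)
      (fun a ha b hb haK hbK => hprod a ha b hb haK hbK (hinv2 a ha haK) (hinv2 b hb hbK)) hKC
      fun v₁ h1 v₂ h2 o1 o2 hne k m hk hko c1 c2 => ?_
    · have haS := (hmemK.1 ha).1
      have := hinv2 (s * a) (mul_mem hs haS) fun hm => hsK ((mul_mem_cancel_right ha).1 hm)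
      rw [inv_eq_of_mul_eq_one_right (hinv2 s hs hsK), eq_inv_iff_mul_eq_one, mul_assoc]
      exact this
    · refine hsK (hmemK.2 ⟨hs, ?_⟩)
      exact ((e g).2 hgz).symm
    · set k' := m * k * m⁻¹ with hk'
      set g' := m * g * m⁻¹ with hg'
      have hk'o : orderOf k' = 2 := by rw [hk', ← MulAut.conj_apply, MulEquiv.orderOf_eq, hko]
      have hg'o : orderOf g' = orderOf g := by rw [hg', ← MulAut.conj_apply, MulEquiv.orderOf_eq]
      have hg'odd : Odd (orderOf g') := by rwa [hg'o]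
      have hg'1 : g' ≠ 1 := fun e => by rw [e, orderOf_one] at hg'o; rw [← hg'o] at hgp; exact Nat.not_prime_one hgp
      have hgk' : Commute g' k' := by
        show g' * k' = k' * g'
        rw [hg', hk', show m * g * m⁻¹ * (m * k * m⁻¹) = m * (g * k) * m⁻¹ by group, (hmemK.1 hk).2.symm.eq]
        group
      have hd : ∀ v, orderOf v = 2 → Commute v k' → v * g' * v⁻¹ = g' ∨ v * g' * v⁻¹ = g'⁻¹ := fun v hv hvk =>
        invert_of_prime (mul_self_of_orderOf hv) (by rwa [hg'o]) (h.odd_norm g' k' hk'o hgk' hg'odd v hvk)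
      have fin : ∀ v ∈ K, orderOf v = 2 → v * g' * v⁻¹ = g' → ∃ v ∈ K, orderOf v = 2 ∧ ∀ c, Commute c v ↔ Commute c k' :=
        fun v hv hvo e => ⟨v, hv, hvo, h.cent_eq hvo hk'o hg'odd hg'1 (mul_inv_eq_iff_eq_mul.1 e).symm hgk'⟩
      rcases hd v₁ o1 c1 with e1 | e1
      · exact fin v₁ h1 o1 e1
      rcases hd v₂ o2 c2 with e2 | e2
      · exact fin v₂ h2 o2 e2
      have hv12 : Commute v₁ v₂ :=
        ((hKC v₂ h2 o2 v₁).2 (hzc v₁ (hmemK.1 h1).1))
      refine fin (v₁ * v₂) (mul_mem h1 h2) (orderOf_two (fun e => hne ?_) ?_) ?_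
      · rw [mul_eq_one_iff_eq_inv] at e
        rw [e, inv_eq_of_mul_eq_one_right (mul_self_of_orderOf o2)]
      · rw [hv12.symm.mul_mul_mul_comm, mul_self_of_orderOf o1, mul_self_of_orderOf o2, one_mul]
      · rw [show v₁ * v₂ * g' * (v₁ * v₂)⁻¹ = v₁ * (v₂ * g' * v₂⁻¹) * v₁⁻¹ by group, e2, ← conj_inv, e1, inv_inv]

/-- The case in which centralisers of central involutions are Sylow subgroups. -/
theorem isPSLTwo_of_no_core (S : Sylow 2 G)
    (hC : ∀ v ∈ (S : Subgroup G), orderOf v = 2 → (∀ a ∈ (S : Subgroup G), Commute a v) →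
      ∀ c, Commute c v → c ∈ (S : Subgroup G)) : IsPSLTwo G := by
  haveI : Fact (Nat.Prime 2) := ⟨Nat.prime_two⟩
  by_cases hall : ∀ s ∈ (S : Subgroup G), orderOf s = 2 → ∀ a ∈ (S : Subgroup G), Commute a s
  · have hSc := sylow_comm hna h S hall
    exact isPSLTwo_of_sylow hna h S fun v hv hvo => ⟨⟨fun a b => Subtype.ext
      (hSc a (hC v hv hvo (hall v hv hvo) a (mem_centralizer_singleton_iff.1 a.2)) b
        (hC v hv hvo (hall v hv hvo) b (mem_centralizer_singleton_iff.1 b.2))).eq⟩⟩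
  push Not at hall
  obtain ⟨s₁, hs₁, hs₁o, a₁, ha₁, hna₁⟩ := hall
  obtain ⟨x, hx, hx2⟩ : ∃ x ∈ (S : Subgroup G), x * x ≠ 1 := by
    by_contra hcon
    push Not at hcon
    apply hna₁
    have e := hcon _ (mul_mem ha₁ hs₁)
    show a₁ * s₁ = s₁ * a₁
    calc a₁ * s₁ = (a₁ * s₁)⁻¹ := (inv_eq_of_mul_eq_one_right e).symm
      _ = s₁ * a₁ := by
        rw [mul_inv_rev, inv_eq_of_mul_eq_one_right (hcon _ ha₁), inv_eq_of_mul_eq_one_right (hcon _ hs₁)]
  obtain ⟨r, z, hr, -, hrz, hz, -⟩ := exists_root_mem S hx hx2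
  have hzS : z ∈ (S : Subgroup G) := hrz ▸ mul_mem hr hr
  have hzc : ∀ a ∈ (S : Subgroup G), Commute a z := fun a ha => root_central hna h S hr hrz hz ha
  -- every element acts on all roots in the same way
  have hsign : ∀ a ∈ (S : Subgroup G), a * r * a⁻¹ = r ∨ a * r * a⁻¹ = r⁻¹ := by
    intro a ha
    rcases mem_zpowers_root hrz hz (h.cyc r z hz (root_mem hrz) a (hzc a ha)) with e | e | e | e
    · exact absurd ((mul_inv_eq_one.1 e).trans (mul_one a).symm |> mul_left_cancel) (root_ne hrz hz).1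
    · exact Or.inl e
    · exfalso
      refine (root_ne hrz hz).2.1 ((conj_injective (x := a)) (e.trans ?_))
      show z = a * z * a⁻¹
      rw [(hzc a ha).eq, mul_inv_cancel_right]
    · exact Or.inr e
  obtain ⟨w, hwS, hw2, hw⟩ : ∃ w ∈ (S : Subgroup G), w * w = 1 ∧
      ∀ ρ v, ρ ∈ (S : Subgroup G) → ρ * ρ = v → orderOf v = 2 → w * ρ * w⁻¹ = ρ⁻¹ := by
    by_cases htwo : ∃ r' v', r' ∈ (S : Subgroup G) ∧ r' * r' = v' ∧ orderOf v' = 2 ∧ v' ≠ z
    · obtain ⟨r', z', hr', hr'z, hz', hne⟩ := htwo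
      have hU : ∀ a ∈ (S : Subgroup G), ∀ ρ v, ρ ∈ (S : Subgroup G) → ρ * ρ = v → orderOf v = 2 →
          (a * r * a⁻¹ = r → a * ρ * a⁻¹ = ρ) ∧ (a * r * a⁻¹ = r⁻¹ → a * ρ * a⁻¹ = ρ⁻¹) := by
        have key : ∀ {a ρ₁ ρ₂ v₁ v₂ : G}, a ∈ (S : Subgroup G) → ρ₁ ∈ (S : Subgroup G) → ρ₂ ∈ (S : Subgroup G) →
            ρ₁ * ρ₁ = v₁ → ρ₂ * ρ₂ = v₂ → orderOf v₁ = 2 → orderOf v₂ = 2 → v₁ ≠ v₂ →
            (a * ρ₁ * a⁻¹ = ρ₁ → a * ρ₂ * a⁻¹ = ρ₂) ∧ (a * ρ₁ * a⁻¹ = ρ₁⁻¹ → a * ρ₂ * a⁻¹ = ρ₂⁻¹) := by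
          intro a ρ₁ ρ₂ v₁ v₂ ha m1 m2 e1 e2 o1 o2 hne
          rcases (uniform_sylow hna h S ha m1 m2 e1 e2 o1 o2 hne).2 with ⟨p, q⟩ | ⟨p, q⟩
          · exact ⟨fun _ => q, fun e => absurd (e.symm.trans p) (root_ne e1 o1).2.2⟩
          · exact ⟨fun e => absurd (p.symm.trans e) (root_ne e1 o1).2.2, fun _ => q⟩
        intro a ha ρ v hρ hv hvo
        by_cases hvz : v = z
        · have k1 := key ha hr hr' hrz hr'z hz hz' hne.symm
          have k2 := key ha hr' hρ hr'z hv hz' hvo (hvz ▸ hne)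
          exact ⟨fun e => k2.1 (k1.1 e), fun e => k2.2 (k1.2 e)⟩
        · exact key ha hr hρ hrz hv hz hvo (Ne.symm hvz)
      obtain ⟨c, hc, hci⟩ : ∃ c ∈ (S : Subgroup G), c * r * c⁻¹ = r⁻¹ := by
        by_contra hcon
        push Not at hcon
        have hfix : ∀ a ∈ (S : Subgroup G), a * r * a⁻¹ = r := fun a ha => (hsign a ha).resolve_right (hcon a ha)
        have hsr : Commute s₁ r := mul_inv_eq_iff_eq_mul.1 (hfix s₁ hs₁)
        have h1 : Commute a₁ (r * s₁) := mul_inv_eq_iff_eq_mul.1 ((hU a₁ ha₁ (r * s₁) z (mul_mem hr hs₁)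
          (by rw [hsr.mul_mul_mul_comm, hrz, mul_self_of_orderOf hs₁o, mul_one]) hz).1 (hfix a₁ ha₁))
        have h2 := (show Commute a₁ r from mul_inv_eq_iff_eq_mul.1 (hfix a₁ ha₁)).inv_right.mul_right h1
        exact hna₁ (by rwa [inv_mul_cancel_left] at h2)
      refine ⟨c, hc, ?_, fun ρ v hρ hv hvo => (hU c hc ρ v hρ hv hvo).2 hci⟩
      by_contra hc2
      obtain ⟨ρ, v, hρ, hρc, hv, hvo, -⟩ := exists_root_mem S hc hc2
      have e1 := (hU c hc ρ v hρ hv hvo).2 hci
      obtain ⟨i, rfl⟩ := mem_zpowers_iff.1 hρc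
      rw [((Commute.refl c).zpow_right i).eq, mul_inv_cancel_right] at e1
      exact (root_ne hv hvo).2.2 e1.symm
    · push Not at htwo
      obtain ⟨g, hgS, hne⟩ := exists_conj_ne hna S hz hzS
      have hwo : orderOf (g * z * g⁻¹) = 2 := by rw [← MulAut.conj_apply, MulEquiv.orderOf_eq, hz]
      refine ⟨g * z * g⁻¹, hgS, mul_self_of_orderOf hwo, fun ρ v hρ hv hvo => ?_⟩
      have hvz : v = z := htwo ρ v hρ hv hvo
      rw [hvz] at hv
      set w := g * z * g⁻¹ with hw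
      rcases mem_zpowers_root hv hz (h.cyc ρ z hz (root_mem hv) w (hzc w hgS)) with e | e | e | e
      · exact absurd ((mul_inv_eq_one.1 e).trans (mul_one w).symm |> mul_left_cancel) (root_ne hv hz).1
      · exfalso
        have hρw : Commute ρ w := (show Commute w ρ from mul_inv_eq_iff_eq_mul.1 e).symm
        have hρz : Commute (g⁻¹ * ρ * g) z := by
          show g⁻¹ * ρ * g * z = z * (g⁻¹ * ρ * g)
          calc g⁻¹ * ρ * g * z = g⁻¹ * (ρ * w) * g := by rw [hw]; group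
            _ = g⁻¹ * (w * ρ) * g := by rw [hρw.eq]
            _ = z * (g⁻¹ * ρ * g) := by rw [hw]; group
        have h1 := htwo (g⁻¹ * ρ * g) (g⁻¹ * z * g) (hC z hzS hz hzc _ hρz) (by rw [← hv]; group) (by
          have := MulEquiv.orderOf_eq (MulAut.conj g⁻¹) z
          rw [MulAut.conj_apply, inv_inv] at this
          rw [this, hz])
        apply hne
        calc w = g * (g⁻¹ * z * g) * g⁻¹ := by rw [hw, h1]
          _ = z := by group
      · exfalso
        refine (root_ne hv hz).2.1 ((conj_injective (x := w)) (e.trans ?_))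
        show z = w * z * w⁻¹
        rw [(hzc w hgS).eq, mul_inv_cancel_right]
      · exact e
  set K : Subgroup G := (S : Subgroup G) ⊓ centralizer ({r} : Set G) with hK
  have hmemK : ∀ {a}, a ∈ K ↔ a ∈ (S : Subgroup G) ∧ Commute a r := fun {a} => by
    rw [hK, mem_inf, mem_centralizer_singleton_iff]; rfl
  have hwr : w * r * w⁻¹ = r⁻¹ := hw r z hr hrz hz
  have hwi : w⁻¹ = w := inv_eq_of_mul_eq_one_right hw2
  have hwK : ∀ k ∈ K, w * k * w⁻¹ = k⁻¹ := by
    intro k hk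
    obtain ⟨hkS, hkr⟩ := hmemK.1 hk
    by_cases hk2 : k * k = 1
    · have e := hw (r * k) z (mul_mem hr hkS) (by rw [hkr.mul_mul_mul_comm, hrz, hk2, mul_one]) hz
      rw [show w * (r * k) * w⁻¹ = (w * r * w⁻¹) * (w * k * w⁻¹) by group, hwr, mul_inv_rev,
        ← (hkr.inv_inv).eq.symm] at e
      exact mul_left_cancel e
    obtain ⟨ρ, v, hρ, -, hρv, hv, hvk⟩ := exists_root_mem S hkS hk2
    have hkw : w * k * w⁻¹ ∈ zpowers k := h.cyc k v hv
      (zpowers_le.2 (mul_mem (mem_zpowers k) (mem_zpowers k)) hvk) w (root_central hna h S hρ hρv hv hwS)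
    set q := k * w with hq
    have hqq : q * q = k * (w * k * w⁻¹) := by rw [hq, hwi, mul_assoc, mul_assoc]
    by_cases hq2 : q * q = 1
    · rw [hqq] at hq2; exact (inv_eq_of_mul_eq_one_right hq2).symm
    exfalso
    have hqS : q ∈ (S : Subgroup G) := mul_mem hkS hwS
    have hqk : q * q ∈ zpowers k := hqq ▸ mul_mem (mem_zpowers k) hkw
    by_cases hq4 : q * q * (q * q) = 1
    · have e := hw q (q * q) hqS rfl (orderOf_two hq2 hq4)
      rw [hq, mul_inv_rev, hwi, mul_assoc, mul_assoc k w, hw2, mul_one] at e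
      exact hk2 (mul_eq_one_iff_eq_inv.2 (mul_left_cancel e))
    · obtain ⟨σ, u, hσ, hσq, hσu, hu, -⟩ := exists_root_mem S (mul_mem hqS hqS) hq4
      have hc1 : Commute q σ := by
        obtain ⟨i, rfl⟩ := mem_zpowers_iff.1 hσq
        exact ((Commute.refl q).mul_right (Commute.refl q)).zpow_right i
      have hc2 : Commute k σ := by
        obtain ⟨i, rfl⟩ := mem_zpowers_iff.1 (zpowers_le.2 hqk hσq)
        exact (Commute.refl k).zpow_right i
      have hc3 : Commute w σ := by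
        have := hc2.inv_left.mul_left hc1
        rwa [hq, inv_mul_cancel_left] at this
      have e := hw σ u hσ hσu hu
      rw [hc3.eq, mul_inv_cancel_right] at e
      exact (root_ne hσu hu).2.2 e.symm
  have hKc : ∀ a ∈ K, ∀ b ∈ K, Commute a b := by
    intro a ha b hb
    have e := hwK _ (mul_mem ha hb)
    rw [show w * (a * b) * w⁻¹ = (w * a * w⁻¹) * (w * b * w⁻¹) by group, hwK a ha, hwK b hb,
      ← mul_inv_rev, inv_inj] at e
    exact e.symm
  have hwnK : w ∉ K := fun e => (root_ne hrz hz).2.2 (by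
    rw [(hmemK.1 e).2.eq, mul_inv_cancel_right] at hwr
    exact hwr.symm)
  have hsplit : ∀ c ∈ (S : Subgroup G), c ∉ K → c * w ∈ K := by
    intro c hc hcK
    refine hmemK.2 ⟨mul_mem hc hwS, mul_inv_eq_iff_eq_mul.1 ?_⟩
    rw [show c * w * r * (c * w)⁻¹ = c * (w * r * w⁻¹) * c⁻¹ by group, hwr, ← conj_inv,
      (hsign c hc).resolve_left fun e => hcK (hmemK.2 ⟨hc, mul_inv_eq_iff_eq_mul.1 e⟩), inv_inv]
  have hcentral : ∀ v ∈ K, orderOf v = 2 → ∀ a ∈ (S : Subgroup G), Commute a v := by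
    intro v hv hvo a ha
    have hwv : Commute w v := mul_inv_eq_iff_eq_mul.1 ((hwK v hv).trans
      (inv_eq_of_mul_eq_one_right (mul_self_of_orderOf hvo)))
    by_cases haK : a ∈ K
    · exact hKc a haK v hv
    · have := (hKc _ (hsplit a ha haK) v hv).mul_left hwv
      rwa [mul_assoc, hw2, mul_one] at this
  have hout2 : ∀ c ∈ (S : Subgroup G), c ∉ K → c * c = 1 ∧ ∀ a ∈ K, c * a * c⁻¹ = a⁻¹ := by
    intro c hc hcK
    obtain ⟨k, hk, rfl⟩ : ∃ k ∈ K, c = k * w := ⟨c * w, hsplit c hc hcK, by rw [mul_assoc, hw2, mul_one]⟩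
    refine ⟨?_, fun a ha => ?_⟩
    · rw [show k * w * (k * w) = k * ((w * k * w⁻¹) * (w * w)) by group, hwK k hk, hw2, mul_one, mul_inv_cancel]
    · rw [show k * w * a * (k * w)⁻¹ = k * (w * a * w⁻¹) * k⁻¹ by group, hwK a ha,
        (hKc k hk a⁻¹ (inv_mem ha)).eq, mul_inv_cancel_right]
  have hcen : ∀ v ∈ K, orderOf v = 2 → ∀ c, Commute c v ↔ Commute c z := fun v hv hvo c => by
    have hvS := (hmemK.1 hv).1
    exact ⟨fun hc => hzc c (hC v hvS hvo (hcentral v hv hvo) c hc),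
      fun hc => hcentral v hv hvo c (hC z hzS hz hzc c hc)⟩
  refine isPSLTwo_of_data hna h S K inf_le_left
    (hmemK.2 ⟨hzS, (hzc r hr).symm⟩) hz hwS hwnK
    (fun s hs hsK => ⟨(hout2 s hs hsK).1, (hout2 s hs hsK).2, fun e =>
      hsK (hmemK.2 ⟨hs, ((e r).2 (hzc r hr)).symm⟩)⟩)
    (fun a ha b hb haK hbK => ?_) hcen fun v₁ h1 v₂ h2 o1 o2 hne k m hk hko c1 c2 => ?_
  · have h1 := mul_mem (hsplit a ha haK) (inv_mem (hsplit b hb hbK))
    rwa [mul_inv_rev, ← mul_assoc, mul_assoc a w, hwi, hw2, mul_one, inv_eq_of_mul_eq_one_right (hout2 b hb hbK).1] at h1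
  · set k' := m * k * m⁻¹ with hk'
    have hS' : ∀ v, Commute v k' → m⁻¹ * v * m ∈ (S : Subgroup G) := fun v hv =>
      hC k (hmemK.1 hk).1 hko (hcentral k hk hko) _ (by
        show m⁻¹ * v * m * k = k * (m⁻¹ * v * m)
        calc m⁻¹ * v * m * k = m⁻¹ * (v * k') * m := by rw [hk']; group
          _ = m⁻¹ * (k' * v) * m := by rw [hv.eq]
          _ = k * (m⁻¹ * v * m) := by rw [hk']; group)
    have fin : ∀ v ∈ K, orderOf v = 2 → m⁻¹ * v * m ∈ K →
        ∃ v ∈ K, orderOf v = 2 ∧ ∀ c, Commute c v ↔ Commute c k' := by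
      intro v hv hvo hv'
      refine ⟨v, hv, hvo, fun c => ?_⟩
      have ho' : orderOf (m⁻¹ * v * m) = 2 := by
        have := MulEquiv.orderOf_eq (MulAut.conj m⁻¹) v
        rw [MulAut.conj_apply, inv_inv] at this
        rw [this, hvo]
      have e := (hcen _ hv' ho' (m⁻¹ * c * m)).trans (hcen k hk hko (m⁻¹ * c * m)).symm
      have t1 : Commute c v ↔ Commute (m⁻¹ * c * m) (m⁻¹ * v * m) := by
        have := (Commute.conj_iff m⁻¹ (a := c) (b := v)).symm
        rwa [inv_inv] at this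
      have t2 : Commute c k' ↔ Commute (m⁻¹ * c * m) k := by
        have := (Commute.conj_iff m⁻¹ (a := c) (b := k')).symm
        rwa [inv_inv, show m⁻¹ * k' * m = k by rw [hk']; group] at this
      exact t1.trans (e.trans t2.symm)
    by_cases f1 : m⁻¹ * v₁ * m ∈ K
    · exact fin v₁ h1 o1 f1
    by_cases f2 : m⁻¹ * v₂ * m ∈ K
    · exact fin v₂ h2 o2 f2
    have hv12 : Commute v₁ v₂ := hKc v₁ h1 v₂ h2
    refine fin (v₁ * v₂) (mul_mem h1 h2) (orderOf_two (fun e => hne ?_) ?_) ?_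
    · rw [mul_eq_one_iff_eq_inv] at e
      rw [e, inv_eq_of_mul_eq_one_right (mul_self_of_orderOf o2)]
    · rw [hv12.symm.mul_mul_mul_comm, mul_self_of_orderOf o1, mul_self_of_orderOf o2, one_mul]
    · rw [show m⁻¹ * (v₁ * v₂) * m = (m⁻¹ * v₁ * m) * (m⁻¹ * v₂ * m) by group]
      obtain ⟨e1, -⟩ := hout2 _ (hS' v₁ c1) f1
      have := mul_mem (hsplit _ (hS' v₁ c1) f1) (inv_mem (hsplit _ (hS' v₂ c2) f2))
      rwa [mul_inv_rev, ← mul_assoc, mul_assoc _ w, hwi, hw2, mul_one,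
        inv_eq_of_mul_eq_one_right (hout2 _ (hS' v₂ c2) f2).1] at this

/-- **The simple case.** -/
theorem isPSLTwo_of_simple : IsPSLTwo G := by
  haveI : Fact (Nat.Prime 2) := ⟨Nat.prime_two⟩
  obtain ⟨S⟩ := (inferInstance : Nonempty (Sylow 2 G))
  by_cases hc : ∃ z ∈ (S : Subgroup G), orderOf z = 2 ∧ (∀ a ∈ (S : Subgroup G), Commute a z) ∧
      ∃ c, Commute c z ∧ c ∉ (S : Subgroup G)
  · obtain ⟨z, hzS, hz, hzc, c, hcz, hcS⟩ := hc
    by_cases hg : ∃ g, Commute g z ∧ (orderOf g).Prime ∧ Odd (orderOf g)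
    · obtain ⟨g, hgz, hgp, hgo⟩ := hg
      exact isPSLTwo_of_core hna h S hzS hz hzc hgz hgp hgo
    exfalso
    set C := centralizer ({z} : Set G) with hC
    have hSC : (S : Subgroup G) ≤ C := fun a ha => mem_centralizer_singleton_iff.2 (hzc a ha)
    have hCp : IsPGroup 2 C := by
      refine IsPGroup.iff_orderOf.2 fun x => ⟨(orderOf x).primeFactorsList.length,
        Nat.eq_prime_pow_of_unique_prime_dvd (orderOf_pos x).ne' fun {q} hq hqx => ?_⟩
      by_contra hq2
      refine hg ⟨(x : G) ^ (orderOf (x : G) / q), ?_, ?_⟩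
      · exact (show Commute (x : G) z from mem_centralizer_singleton_iff.1 x.2).pow_left _
      · have : orderOf ((x : G) ^ (orderOf (x : G) / q)) = q :=
          orderOf_pow_orderOf_div (orderOf_pos _).ne' (by rwa [orderOf_coe])
        rw [this]
        exact ⟨hq, hq.odd_of_ne_two hq2⟩
    exact hcS (S.is_maximal' hCp hSC ▸ mem_centralizer_singleton_iff.2 hcz)
  · push Not at hc
    exact isPSLTwo_of_no_core hna h S fun v hv hvo hva c hcv => hc v hv hvo hva c hcv

end Cfsg.Agent.EvenCyclicNorm
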