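import Mathlib.GroupTheory.Nilpotent
import Mathlib.GroupTheory.SpecificGroups.Cyclic

/-!
# 2-groups in which cyclic subgroups are normalised by the centraliser of their involution

If `⟨x⟩` is normalised by `C(u)` whenever `u` is the involution of `⟨x⟩`, then every involution
that is a square is central.
-/

set_option autoImplicit false

namespace Cfsg.Agent.EvenCyclicNorm

open Subgroup

variable {S : Type*} [Group S]

/-- Every cyclic subgroup is normalised by the centraliser of its involution. -/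
def CycN (S : Type*) [Group S] : Prop :=
  ∀ x u : S, orderOf u = 2 → u ∈ zpowers x → ∀ c, Commute c u → c * x * c⁻¹ ∈ zpowers x

theorem mul_self_of_orderOf {u : S} (hu : orderOf u = 2) : u * u = 1 := by
  have := pow_orderOf_eq_one u
  rwa [hu, pow_two] at this

theorem ne_one_of_orderOf {u : S} (hu : orderOf u = 2) : u ≠ 1 := fun h => by
  rw [h, orderOf_one] at hu; omega

theorem orderOf_two {u : S} (h1 : u ≠ 1) (h : u * u = 1) : orderOf u = 2 :=
  orderOf_eq_prime (by rw [pow_two, h]) h1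

theorem mem_zpowers_root {c u y : S} (hc : c * c = u) (hu : orderOf u = 2) (hy : y ∈ zpowers c) :
    y = 1 ∨ y = c ∨ y = u ∨ y = c⁻¹ := by
  obtain ⟨i, rfl⟩ := mem_zpowers_iff.1 hy
  have h4 : c ^ (4 : ℤ) = 1 := by
    rw [show (4 : ℤ) = 2 + 2 by norm_num, zpow_add, zpow_two, hc, mul_self_of_orderOf hu]
  have : i = 4 * (i / 4) + i % 4 := (Int.mul_ediv_add_emod i 4).symm
  rw [this, zpow_add, zpow_mul, h4, one_zpow, one_mul]
  have h0 : 0 ≤ i % 4 := Int.emod_nonneg _ (by norm_num)
  have h1 : i % 4 < 4 := Int.emod_lt_of_pos _ (by norm_num)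
  obtain h | h | h | h : i % 4 = 0 ∨ i % 4 = 1 ∨ i % 4 = 2 ∨ i % 4 = 3 := by omega
  · exact Or.inl (by rw [h, zpow_zero])
  · exact Or.inr (Or.inl (by rw [h, zpow_one]))
  · exact Or.inr (Or.inr (Or.inl (by rw [h, zpow_two, hc])))
  · refine Or.inr (Or.inr (Or.inr ?_))
    rw [h, eq_inv_iff_mul_eq_one, ← zpow_add_one]
    exact h4

theorem root_ne {c u : S} (hc : c * c = u) (hu : orderOf u = 2) : c ≠ 1 ∧ c ≠ u ∧ c⁻¹ ≠ c := by
  refine ⟨?_, ?_, ?_⟩ <;> intro h
  · rw [h, one_mul] at hc; exact ne_one_of_orderOf hu hc.symm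
  · rw [h, mul_self_of_orderOf hu] at hc; exact ne_one_of_orderOf hu hc.symm
  · refine ne_one_of_orderOf hu ?_
    rw [← hc]
    nth_rw 1 [← h]
    rw [inv_mul_cancel]

variable [Finite S]

theorem involution_unique {x u v : S} (hu : orderOf u = 2) (hv : orderOf v = 2) (hux : u ∈ zpowers x)
    (hvx : v ∈ zpowers x) : u = v := by
  classical
  have key : ∀ w : S, orderOf w = 2 → w ∈ zpowers x → w = x ^ (orderOf x / 2) := by
    intro w hw hwx
    rw [(isOfFinOrder_of_finite x).mem_zpowers_iff_mem_range_orderOf] at hwx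
    obtain ⟨i, hi, rfl⟩ := Finset.mem_image.1 hwx
    have hi' := Finset.mem_range.1 hi
    have h2 : x ^ (2 * i) = 1 := by rw [mul_comm, pow_mul, pow_two, mul_self_of_orderOf hw]
    obtain ⟨k, hk⟩ := orderOf_dvd_of_pow_eq_one h2
    have hi0 : i ≠ 0 := fun h => ne_one_of_orderOf hw (by rw [h, pow_zero])
    have hk1 : k = 1 := by
      rcases lt_trichotomy k 1 with h | h | h
      · have : k = 0 := by omega
        subst this; omega
      · exact h
      · have : orderOf x * 2 ≤ orderOf x * k := Nat.mul_le_mul_left _ h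
        omega
    subst hk1
    congr 1; omega
  rw [key u hu hux, key v hv hvx]

omit [Finite S] in
theorem exists_involution (h2 : IsPGroup 2 S) {x : S} (hx : x ≠ 1) :
    ∃ u, orderOf u = 2 ∧ u ∈ zpowers x := by
  obtain ⟨k, hk⟩ := (IsPGroup.iff_orderOf.1 h2) x
  have hk0 : k ≠ 0 := fun h => hx (orderOf_eq_one_iff.1 (by rw [hk, h, pow_zero]))
  refine ⟨x ^ (2 ^ (k - 1)), ?_, npow_mem_zpowers x _⟩
  rw [orderOf_pow_of_dvd (by positivity) (by rw [hk]; exact pow_dvd_pow 2 (by omega)), hk,
    Nat.pow_div (by omega) (by norm_num), show k - (k - 1) = 1 by omega, pow_one]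

omit [Finite S] in
theorem exists_root (h2 : IsPGroup 2 S) {x : S} (hx : x * x ≠ 1) :
    ∃ r u, r ∈ zpowers x ∧ r * r = u ∧ orderOf u = 2 ∧ u ∈ zpowers (x * x) := by
  obtain ⟨u, hu, humem⟩ := exists_involution h2 hx
  obtain ⟨i, hi⟩ := mem_zpowers_iff.1 humem
  refine ⟨x ^ i, u, mem_zpowers_iff.2 ⟨i, rfl⟩, ?_, hu, humem⟩
  rw [← hi, (Commute.refl x).mul_zpow]

theorem eq_one_of_mem_both (h2 : IsPGroup 2 S) {x y u v : S} (hu : orderOf u = 2) (hv : orderOf v = 2)
    (hux : u ∈ zpowers x) (hvy : v ∈ zpowers y) (huv : u ≠ v) {w : S} (hwx : w ∈ zpowers x)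
    (hwy : w ∈ zpowers y) : w = 1 := by
  by_contra hw
  obtain ⟨z, hz, hzw⟩ := exists_involution h2 hw
  exact huv ((involution_unique hu hz hux (zpowers_le.2 hwx hzw)).trans
    (involution_unique hz hv (zpowers_le.2 hwy hzw) hvy))

theorem comm_of_normalize (h2 : IsPGroup 2 S) (hN : CycN S) {x y u v : S} (hu : orderOf u = 2)
    (hv : orderOf v = 2) (hux : u ∈ zpowers x) (hvy : v ∈ zpowers y) (huv : u ≠ v)
    (hyu : Commute y u) (hxv : Commute x v) : Commute x y := by
  have h1 : x * y * x⁻¹ * y⁻¹ ∈ zpowers x := by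
    rw [show x * y * x⁻¹ * y⁻¹ = x * (y * x⁻¹ * y⁻¹) by group]
    refine mul_mem (mem_zpowers x) ?_
    rw [show y * x⁻¹ * y⁻¹ = (y * x * y⁻¹)⁻¹ by group]
    exact inv_mem (hN x u hu hux y hyu)
  have h2' : x * y * x⁻¹ * y⁻¹ ∈ zpowers y :=
    mul_mem (hN y v hv hvy x hxv) (inv_mem (mem_zpowers y))
  have := eq_one_of_mem_both h2 hu hv hux hvy huv h1 h2'
  rwa [mul_inv_eq_one, mul_inv_eq_iff_eq_mul] at this

omit [Finite S] in
theorem root_mem {c u : S} (hc : c * c = u) : u ∈ zpowers c :=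
  hc ▸ mul_mem (mem_zpowers c) (mem_zpowers c)

/-- Commuting roots `c`, `c'` of distinct involutions are fixed or inverted together by any element
centralising both involutions. -/
theorem uniform (h2 : IsPGroup 2 S) (hN : CycN S) {k c c' u u' : S} (hc : c * c = u) (hc' : c' * c' = u')
    (hu : orderOf u = 2) (hu' : orderOf u' = 2) (huv : u ≠ u') (hcu' : Commute c u') (hc'u : Commute c' u)
    (hku : Commute k u) (hku' : Commute k u') :
    (k * c * k⁻¹ = c ∧ k * c' * k⁻¹ = c') ∨ (k * c * k⁻¹ = c⁻¹ ∧ k * c' * k⁻¹ = c'⁻¹) := by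
  have hcc : Commute c c' := comm_of_normalize h2 hN hu hu' (root_mem hc) (root_mem hc') huv hc'u hcu'
  have hv : orderOf (u * u') = 2 := by
    have huu : Commute u u' := by rw [← hc]; exact hcu'.mul_left hcu'
    refine orderOf_two (fun h => huv ?_) ?_
    · rw [mul_eq_one_iff_eq_inv] at h
      rw [h, inv_eq_of_mul_eq_one_right (mul_self_of_orderOf hu')]
    · rw [huu.symm.mul_mul_mul_comm, mul_self_of_orderOf hu, mul_self_of_orderOf hu', one_mul]
  have hr : (c * c') * (c * c') = u * u' := by rw [hcc.symm.mul_mul_mul_comm, hc, hc']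
  have himg := hN (c * c') (u * u') hv (root_mem hr) k (hku.mul_right hku')
  have e1 : k * (c * c') * k⁻¹ = (k * c * k⁻¹) * (k * c' * k⁻¹) := by group
  have hne : u ≠ u * u' := fun h => ne_one_of_orderOf hu' (by simpa using h.symm)
  -- neither `c * c'⁻¹` nor its inverse lies in `⟨c * c'⟩`
  have hmix : c * c'⁻¹ ∉ zpowers (c * c') := by
    intro hm
    have hmem : c * c ∈ zpowers (c * c') := by
      have := mul_mem hm (mem_zpowers (c * c'))
      rwa [show c * c'⁻¹ * (c * c') = c * c by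
        rw [hcc.eq, ← mul_assoc, inv_mul_cancel_right]] at this
    rw [hc] at hmem
    exact hne (involution_unique hu hv hmem (root_mem hr))
  obtain ⟨-, hcu1, -⟩ := root_ne hc hu
  obtain ⟨-, hcu2, -⟩ := root_ne hc' hu'
  have ec : k * c * k⁻¹ = c ∨ k * c * k⁻¹ = c⁻¹ := by
    rcases mem_zpowers_root hc hu (hN c u hu (root_mem hc) k hku) with h | h | h | h
    · exact absurd ((mul_inv_eq_one.1 h).trans (mul_one k).symm |> mul_left_cancel) (root_ne hc hu).1
    · exact Or.inl h
    · exact absurd ((conj_injective (x := k)) (h.trans (by show u = k * u * k⁻¹; rw [hku.eq, mul_inv_cancel_right]))) hcu1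
    · exact Or.inr h
  have ec' : k * c' * k⁻¹ = c' ∨ k * c' * k⁻¹ = c'⁻¹ := by
    rcases mem_zpowers_root hc' hu' (hN c' u' hu' (root_mem hc') k hku') with h | h | h | h
    · exact absurd ((mul_inv_eq_one.1 h).trans (mul_one k).symm |> mul_left_cancel) (root_ne hc' hu').1
    · exact Or.inl h
    · exact absurd ((conj_injective (x := k)) (h.trans (by show u' = k * u' * k⁻¹; rw [hku'.eq, mul_inv_cancel_right]))) hcu2
    · exact Or.inr h
  rw [e1] at himg
  rcases ec with a | a <;> rcases ec' with b | b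
  · exact Or.inl ⟨a, b⟩
  · rw [a, b] at himg; exact absurd himg hmix
  · rw [a, b] at himg
    refine absurd ?_ hmix
    have := inv_mem himg
    rwa [mul_inv_rev, inv_inv, ← hcc.inv_right.eq] at this
  · exact Or.inr ⟨a, b⟩

/-- An involution which is a square is central. -/
theorem commute_of_root (h2 : IsPGroup 2 S) (hN : CycN S) {c u : S} (hc : c * c = u) (hu : orderOf u = 2) (s : S) :
    Commute s u := by
  classical
  have : Fact (Nat.Prime 2) := ⟨Nat.prime_two⟩
  have : Group.IsNilpotent S := h2.isNilpotent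
  by_contra hs
  set D := centralizer ({u} : Set S) with hDdef
  have hD : D ≠ ⊤ := fun h => hs (mem_centralizer_singleton_iff.1 (show s ∈ centralizer ({u} : Set S) by rw [← hDdef, h]; exact mem_top s))
  -- an element of the normaliser outside `D` whose square lies in `D`
  have hnorm : D < normalizer (D : Set S) := Group.normalizerCondition_of_isNilpotent D (lt_top_iff_ne_top.2 hD)
  obtain ⟨d₀, hd₀N, hd₀⟩ := SetLike.exists_of_lt hnorm
  obtain ⟨k₀, hk₀⟩ := h2 d₀
  have hex : ∃ j, d₀ ^ (2 ^ j) ∈ D := ⟨k₀, by rw [hk₀]; exact one_mem _⟩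
  obtain ⟨j, hj⟩ : ∃ j, Nat.find hex = j + 1 := by
    refine Nat.exists_eq_succ_of_ne_zero fun h => hd₀ ?_
    have := Nat.find_spec hex
    rwa [h, pow_zero, pow_one] at this
  set d := d₀ ^ (2 ^ j) with hd_def
  have hdD : d ∉ D := Nat.find_min hex (by omega)
  have hd2 : d * d ∈ D := by
    have := Nat.find_spec hex
    rwa [hj, pow_succ, pow_mul, pow_two] at this
  have hdN : d ∈ normalizer (D : Set S) := pow_mem hd₀N _
  have hdDk : ∀ k ∈ D, d⁻¹ * k * d ∈ D := fun k hk => by
    have := (mem_normalizer_iff.1 (inv_mem hdN) k).1 hk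
    rwa [inv_inv] at this
  have hdDk' : ∀ k ∈ D, d * k * d⁻¹ ∈ D := fun k hk => (mem_normalizer_iff.1 hdN k).1 hk
  have hDu : ∀ k ∈ D, Commute k u := fun k hk => mem_centralizer_singleton_iff.1 hk
  set u' := d * u * d⁻¹ with hu'_def
  set c' := d * c * d⁻¹ with hc'_def
  have hu' : orderOf u' = 2 := by
    rw [hu'_def, ← MulAut.conj_apply, MulEquiv.orderOf_eq, hu]
  have hc' : c' * c' = u' := by rw [hc'_def, hu'_def, ← hc]; group
  have huv : u ≠ u' := fun h => hdD <| mem_centralizer_singleton_iff.2 <| by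
    rw [hu'_def, eq_mul_inv_iff_mul_eq] at h; exact h.symm
  have hDu' : ∀ k ∈ D, Commute k u' := fun k hk => by
    have := (hDu _ (hdDk k hk)).eq
    show k * u' = u' * k
    calc k * u' = d * ((d⁻¹ * k * d) * u) * d⁻¹ := by rw [hu'_def]; group
      _ = d * (u * (d⁻¹ * k * d)) * d⁻¹ := by rw [this]
      _ = u' * k := by rw [hu'_def]; group
  have hcD : c ∈ D := mem_centralizer_singleton_iff.2 (by rw [← hc, mul_assoc])
  have hc'D : c' ∈ D := hdDk' c hcD
  have hcc : Commute c c' := comm_of_normalize h2 hN hu hu' (root_mem hc) (root_mem hc') huv (hDu c' hc'D)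
    (hDu' c hcD)
  have huu : Commute u u' := by rw [← hc]; exact (hDu' c hcD).mul_left (hDu' c hcD)
  have hr : (c * c') * (c * c') = u * u' := by rw [hcc.symm.mul_mul_mul_comm, hc, hc']
  have hv : orderOf (u * u') = 2 := by
    refine orderOf_two (fun h => huv ?_) ?_
    · rw [mul_eq_one_iff_eq_inv] at h
      rw [h, inv_eq_of_mul_eq_one_right (mul_self_of_orderOf hu')]
    · rw [huu.symm.mul_mul_mul_comm, mul_self_of_orderOf hu, mul_self_of_orderOf hu', one_mul]
  have hdu' : d * u' * d⁻¹ = u := by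
    rw [show d * u' * d⁻¹ = (d * d) * u * (d * d)⁻¹ by rw [hu'_def]; group, (hDu _ hd2).eq, mul_inv_cancel_right]
  have hdv : Commute d (u * u') := by
    show d * (u * u') = (u * u') * d
    have : d * (u * u') * d⁻¹ = u * u' := by
      rw [show d * (u * u') * d⁻¹ = (d * u * d⁻¹) * (d * u' * d⁻¹) by group, hdu', ← hu'_def, huu.eq]
    rwa [mul_inv_eq_iff_eq_mul] at this
  -- the square of `d` centralises `c`
  have hmix : ∀ x, x = c * c'⁻¹ ∨ x = c' * c⁻¹ → x ∉ zpowers (c * c') := by
    have hne : u ≠ u * u' := fun h => ne_one_of_orderOf hu' (by simpa using h.symm)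
    have h0 : c * c'⁻¹ ∉ zpowers (c * c') := by
      intro hm
      have hmem : c * c ∈ zpowers (c * c') := by
        have := mul_mem hm (mem_zpowers (c * c'))
        rwa [show c * c'⁻¹ * (c * c') = c * c by
          rw [hcc.eq, ← mul_assoc, inv_mul_cancel_right]] at this
      rw [hc] at hmem
      exact hne (involution_unique hu hv hmem (root_mem hr))
    rintro x (rfl | rfl)
    · exact h0
    · intro hm
      apply h0
      have := inv_mem hm
      rwa [mul_inv_rev, inv_inv] at this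
  have he : d * d * c * (d * d)⁻¹ = c := by
    rcases mem_zpowers_root hc hu (hN c u hu (root_mem hc) _ (hDu _ hd2)) with h | h | h | h
    · exact absurd ((mul_inv_eq_one.1 h).trans (mul_one _).symm |> mul_left_cancel) (root_ne hc hu).1
    · exact h
    · exact absurd ((conj_injective (x := d * d)) (h.trans (by show u = d * d * u * (d * d)⁻¹; rw [(hDu _ hd2).eq, mul_inv_cancel_right])))
        (root_ne hc hu).2.1
    · exfalso
      have := hN (c * c') (u * u') hv (root_mem hr) d hdv
      rw [show d * (c * c') * d⁻¹ = c' * (d * d * c * (d * d)⁻¹) by rw [hc'_def]; group, h] at this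
      exact hmix _ (Or.inr rfl) this
  have hdc' : d * c' * d⁻¹ = c := by
    rw [show d * c' * d⁻¹ = d * d * c * (d * d)⁻¹ by rw [hc'_def]; group, he]
  -- `q = c c'⁻¹` is inverted by `d`
  set q := c * c'⁻¹ with hq_def
  have hq2 : q * q ≠ 1 := fun h => huv <| by
    rw [hq_def, hcc.inv_right.symm.mul_mul_mul_comm, ← mul_inv_rev, hc, hc', mul_inv_eq_one] at h
    exact h
  have hcq : Commute c q := (Commute.refl c).mul_right hcc.inv_right
  have hdq : ¬ Commute d q := fun h => hq2 <| by
    have h1 : d * q * d⁻¹ = q := by rw [h.eq, mul_inv_cancel_right]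
    have h2 : d * q * d⁻¹ = q⁻¹ := by
      rw [hq_def, show d * (c * c'⁻¹) * d⁻¹ = (d * c * d⁻¹) * (d * c' * d⁻¹)⁻¹ by group, hdc', ← hc'_def,
        mul_inv_rev, inv_inv]
    rw [h1] at h2
    nth_rw 1 [h2]
    rw [inv_mul_cancel]
  have hcd : c * d * c⁻¹ = q * d := by rw [hq_def, hc'_def]; group
  -- `d` or `c * d` has a central involution
  have fin : ∀ f, (f = d ∨ f = c * d) → (∃ ε, orderOf ε = 2 ∧ ε ∈ zpowers f ∧ Commute c ε) → False := by
    rintro f hf ⟨ε, hε, hεf, hcε⟩
    have himg := hN f ε hε hεf c hcε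
    have hq : q ∈ zpowers f := by
      rcases hf with rfl | rfl
      · rw [hcd] at himg
        simpa using mul_mem himg (inv_mem (mem_zpowers d))
      · rw [show c * (c * d) * c⁻¹ = c * (c * d * c⁻¹) by group, hcd, ← mul_assoc, hcq.eq, mul_assoc] at himg
        have := mul_mem himg (inv_mem (mem_zpowers (c * d)))
        rwa [mul_assoc, mul_inv_cancel, mul_one] at this
    obtain ⟨i, hi⟩ := mem_zpowers_iff.1 hq
    have hfq : Commute f q := hi ▸ (Commute.refl f).zpow_right i
    rcases hf with rfl | rfl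
    · exact hdq hfq
    · apply hdq
      have := hcq.inv_left.mul_left hfq
      rwa [inv_mul_cancel_left] at this
  by_cases he1 : d * d = 1
  · refine fin (c * d) (Or.inr rfl) ⟨u * u', hv, ?_, (hDu c hcD).mul_right (hDu' c hcD)⟩
    have : (c * d) * (c * d) = c * c' := by
      rw [hc'_def, inv_eq_of_mul_eq_one_right he1, ← mul_assoc, mul_assoc c d c, mul_assoc c]
    rw [← hr, ← this]
    exact mul_mem (mul_mem (mem_zpowers _) (mem_zpowers _)) (mul_mem (mem_zpowers _) (mem_zpowers _))
  · obtain ⟨ρ, ε, hρd, hρ, hε, hεe⟩ := exists_root h2 he1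
    have hec : Commute (d * d) c := by rw [mul_inv_eq_iff_eq_mul] at he; exact he
    have hεc : Commute c ε := by
      obtain ⟨i, hi⟩ := mem_zpowers_iff.1 hεe
      exact hi ▸ (hec.symm.zpow_right i)
    have hεD : ε ∈ D := zpowers_le.2 hd2 hεe
    have hεd : Commute d ε := by
      obtain ⟨i, hi⟩ := mem_zpowers_iff.1 hεe
      exact hi ▸ ((Commute.refl d).mul_right (Commute.refl d)).zpow_right i
    refine fin d (Or.inl rfl) ⟨ε, hε, zpowers_le.2 (mul_mem (mem_zpowers d) (mem_zpowers d)) hεe, hεc⟩
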